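/-
helper62: pieces P1a and P1b of CALL S1421 (helper23; B&G Corollary 12.10-type statement, case of a
nonabelian Sylow `p`-subgroup of `G`).
-/
import Cfsg.Agent.Helper23.BG1210
import Cfsg.Agent.Helper52.BG127P1
import Cfsg.Agent.Helper72.BG12Cor
import Cfsg.Agent.Helper24.BG11b
import Cfsg.Agent.Helper22.BG10e
import Cfsg.Agent.Helper22.BG12a
import Cfsg.Agent.S1403
import Cfsg.Agent.S1412

set_option autoImplicit false

namespace Cfsg.Agent.Helper62

open Cfsg Subgroup Cfsg.Agent.Helper23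

universe u

variable {G : Type u} [Group G] [Finite G]

/-- PIECE P1a of CALL S1421: no element `u` of `E` has `u ^ p` a non-identity element of
`A ∩ C(M_σ)`. -/
theorem bg1210_no_sq (hG : IsMinSimpleOddOrder G) {M E : Subgroup G} (hM : IsCoatom M)
    (hE : IsComplIn E (sigmaCore M) M) {p : ℕ} [Fact p.Prime] (hp : p ∈ tau2 M)
    (hS : ∀ S : Sylow p G, ¬ IsMulCommutative (S : Subgroup G))
    {A : Subgroup G} (hAE : A ≤ E) (hA : IsElementaryAbelian p A) (hAc : Nat.card A = p ^ 2)
    {u : G} (huE : u ∈ E) (hu : u ^ p ∈ A ⊓ centralizer (sigmaCore M : Set G)) : u ^ p = 1 := by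
  by_contra hne
  have hpp : p.Prime := Fact.out
  have hU : Cfsg.Agent.Helper22.BGUniq G := fun K hK h1 h2 => Cfsg.Agent.S1403.result hG K hK h1 h2
  have h12 : Cfsg.Agent.Helper24.BGRk2 G := fun p _ P hr => Cfsg.Agent.S1412.result hG p P hr
  have hT5 : Cfsg.Agent.Helper72.B12T5 G := fun M hM p _ hp A hA =>
    Cfsg.Agent.S1417.result hG M hM p hp A hA
  have h18 := Cfsg.Agent.S1418.result hG M hM E hE p hp A ⟨hAE, hA, hAc⟩
  have hmax := Cfsg.Agent.Helper22.bg10_elemAb_sq_maximal hG hU hM hp.2.2.1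
    (hAE.trans hE.1) hA hAc
  have hp2 : p ≠ 2 := by
    rintro rfl
    have h2 : 2 ∣ Nat.card G := by
      have h1 : Nat.card A ∣ Nat.card G := Subgroup.card_subgroup_dvd_card A
      rw [hAc] at h1
      exact (dvd_pow_self 2 two_ne_zero).trans h1
    exact (Nat.not_even_iff_odd.mpr hG.1) (even_iff_two_dvd.mpr h2)
  set x : G := u ^ p with hx
  have hxA : x ∈ A := hu.1
  have hxC : x ∈ centralizer (sigmaCore M : Set G) := hu.2
  have hxp : x ^ p = 1 := hA.2 x hxA
  have hox : orderOf x = p := orderOf_eq_prime hxp hne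
  -- a Sylow `p`-subgroup containing `u` and `A`
  have hAp : IsPGroup p ↥A := IsPGroup.of_card (n := 2) hAc
  have hup : IsPGroup p ↥(zpowers u) := by
    have h1 : u ^ p ^ 2 = 1 := by rw [pow_two, pow_mul]; exact hxp
    have h2 : orderOf u ∣ p ^ 2 := orderOf_dvd_of_pow_eq_one h1
    obtain ⟨k, -, hk⟩ := (Nat.dvd_prime_pow hpp).mp h2
    exact IsPGroup.of_card (n := k) (by rw [Nat.card_zpowers, hk])
  have huN : zpowers u ≤ normalizer (A : Set G) := by
    rw [zpowers_le]; exact h18.1.1 huE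
  have hsup : IsPGroup p ↥(zpowers u ⊔ A) := IsPGroup.to_sup_of_normal_right' hup hAp huN
  obtain ⟨S, hS'⟩ := hsup.exists_le_sylow
  have huS : u ∈ (S : Subgroup G) := hS' (le_sup_left (a := zpowers u) (b := A) (mem_zpowers u))
  have hAS : A ≤ (S : Subgroup G) := le_sup_right.trans hS'
  have hcen := Cfsg.Agent.Helper52.bg127_pow_central h12 hp2 S hAS hA hAc hmax huS hxA
  -- `X = ⟨x⟩`
  have hXA : zpowers x ≤ A := by rw [zpowers_le]; exact hxA
  have hXc : Nat.card (zpowers x) = p := by rw [Nat.card_zpowers, hox]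
  have hσX : sigmaCore M ≤ centralizer ((zpowers x : Subgroup G) : Set G) := by
    intro m hm
    rw [mem_centralizer_iff]
    intro y hy
    have h1 : zpowers x ≤ centralizer (sigmaCore M : Set G) := by rw [zpowers_le]; exact hxC
    exact (mem_centralizer_iff.mp (h1 hy) m hm).symm
  have hne' : sigmaCore M ⊓ centralizer ((zpowers x : Subgroup G) : Set G) ≠ ⊥ := by
    rw [inf_eq_left.mpr hσX]
    exact Cfsg.Agent.Helper24.bg11b_sigmaCore_ne_bot hG hU hM
  have hCM := (h18.2.2 (zpowers x) hXA hXc hne').1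
  have hSM : (S : Subgroup G) ≤ M := by
    intro t ht
    apply hCM
    rw [mem_centralizer_iff]
    intro y hy
    have h1 : zpowers x ≤ centralizer ({t} : Set G) := by
      rw [zpowers_le, mem_centralizer_iff]
      intro z hz
      rw [Set.mem_singleton_iff] at hz
      subst hz
      exact (hcen z ht).symm
    exact (mem_centralizer_iff.mp (h1 hy) t rfl).symm
  have hcomm := Cfsg.Agent.Helper72.b12c_tau2_comm hT5 hM hp hSM S.2
  exact hS S ⟨⟨fun a b => Subtype.ext (hcomm a a.2 b b.2)⟩⟩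

/-- PIECE P1b of CALL S1421: in the nonabelian case, `C_E(x) ≤ A ∩ C(M_σ)` for every non-identity
`x ∈ M_σ`. -/
theorem bg1210_nonab_cent (hG : IsMinSimpleOddOrder G) {M E : Subgroup G} (hM : IsCoatom M)
    (hE : IsComplIn E (sigmaCore M) M) (hR : BG1210R M E) {p : ℕ} [Fact p.Prime]
    (hp : p ∈ tau2 M) (hS : ∀ S : Sylow p G, ¬ IsMulCommutative (S : Subgroup G))
    {A : Subgroup G} (hAE : A ≤ E) (hA : IsElementaryAbelian p A) (hAc : Nat.card A = p ^ 2)
    (hsq : ∀ u ∈ E, u ^ p ∈ A ⊓ centralizer (sigmaCore M : Set G) → u ^ p = 1) :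
    ∀ x ∈ sigmaCore M, x ≠ 1 →
      E ⊓ centralizer ({x} : Set G) ≤ A ⊓ centralizer (sigmaCore M : Set G) := by
  intro x hxσ hx1 e he
  obtain ⟨heE, heC⟩ := Subgroup.mem_inf.mp he
  have hpp : p.Prime := Fact.out
  have hU : Cfsg.Agent.Helper22.BGUniq G := fun K hK h1 h2 => Cfsg.Agent.S1403.result hG K hK h1 h2
  have h19 := Cfsg.Agent.S1419.result hG M hM E hE p hp hS A ⟨hAE, hA, hAc⟩
  have hex : e * x = x * e := (mem_centralizer_iff.mp heC x rfl).symm
  -- elements of prime order of `E` commuting with `x`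
  have key : ∀ e' : G, e' ∈ E → e' * x = x * e' → ∀ s : ℕ, s.Prime → orderOf e' = s →
      s = p ∧ e' ∈ A ⊓ centralizer (sigmaCore M : Set G) := by
    intro e' he'E he'x s hs ho
    have he'1 : e' ≠ 1 := by
      rintro rfl
      rw [orderOf_one] at ho
      exact hs.one_lt.ne ho
    have hxC : x ∈ sigmaCore M ⊓ centralizer ({e'} : Set G) := by
      refine Subgroup.mem_inf.mpr ⟨hxσ, ?_⟩
      rw [mem_centralizer_iff]
      intro z hz
      rw [Set.mem_singleton_iff] at hz
      subst hz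
      exact he'x
    have hsE : s ∣ Nat.card E := by
      rw [← ho]
      have := orderOf_dvd_natCard (⟨e', he'E⟩ : ↥E)
      rwa [Subgroup.orderOf_mk] at this
    have hsσ : s ∉ sigma M := Cfsg.Agent.Helper22.bg12_not_sigma_of_dvd hG hU hM hE hs hsE
    have hsM : s ∣ Nat.card M := hsE.trans (Subgroup.card_dvd_of_le hE.1)
    have hr2 : PRankLE s 2 ↥M := by
      by_contra hr
      exact hsσ (Cfsg.Agent.Helper22.bg10_alpha_sub_sigma hG hU hM ⟨hs, hr⟩)
    by_cases hr1 : PRankLE s 1 ↥M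
    · exfalso
      have hτ : s ∈ tau1 M ∪ tau3 M := by
        by_cases hd : s ∣ Nat.card ↥⁅M, M⁆
        · exact Or.inr ⟨hs, hsσ, hd, hr1⟩
        · exact Or.inl ⟨hs, hsσ, hsM, hd, hr1⟩
      have h1 := hR e' he'E he'1 (fun q hq hqd => by
        rw [ho] at hqd
        rw [(Nat.prime_dvd_prime_iff_eq hq hs).mp hqd]
        exact hτ)
      rw [h1, Subgroup.mem_bot] at hxC
      exact hx1 hxC
    · have hsτ : s ∈ tau2 M := ⟨hs, hsσ, hr2, hr1⟩
      rw [h19.1, Set.mem_singleton_iff] at hsτ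
      refine ⟨hsτ, ?_⟩
      subst hsτ
      by_contra hmem
      have hXne : zpowers e' ≠ A ⊓ centralizer (sigmaCore M : Set G) := by
        intro h
        exact hmem (h ▸ mem_zpowers e')
      have h1 := (h19.2.2 (zpowers e') (by rw [zpowers_le]; exact he'E)
        (by rw [Nat.card_zpowers, ho]) hXne).1
      have hxC' : x ∈ sigmaCore M ⊓ centralizer ((zpowers e' : Subgroup G) : Set G) := by
        refine Subgroup.mem_inf.mpr ⟨hxσ, ?_⟩
        have h2 : zpowers e' ≤ centralizer ({x} : Set G) := by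
          rw [zpowers_le, mem_centralizer_iff]
          intro z hz
          rw [Set.mem_singleton_iff] at hz
          subst hz
          exact he'x.symm
        rw [mem_centralizer_iff]
        intro y hy
        exact (mem_centralizer_iff.mp (h2 hy) x rfl).symm
      rw [h1, Subgroup.mem_bot] at hxC'
      exact hx1 hxC'
  -- powers of `e` commute with `x`
  have hpowx : ∀ n : ℕ, e ^ n * x = x * e ^ n := fun n => (Commute.pow_left hex n).eq
  by_cases he1 : e = 1
  · rw [he1]; exact Subgroup.one_mem _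
  have hn0 : orderOf e ≠ 0 := (orderOf_pos e).ne'
  -- the order of `e` is a power of `p`
  have hprime : ∀ {d : ℕ}, d.Prime → d ∣ orderOf e → d = p := by
    intro d hd hdvd
    have ho : orderOf (e ^ (orderOf e / d)) = d := orderOf_pow_orderOf_div hn0 hdvd
    exact (key _ (pow_mem heE _) (hpowx _) d hd ho).1
  have hpow := Nat.eq_prime_pow_of_unique_prime_dvd hn0 hprime
  set k := (orderOf e).primeFactorsList.length with hk
  have hk0 : k ≠ 0 := by
    intro h0
    rw [h0, pow_zero] at hpow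
    exact he1 (orderOf_eq_one_iff.mp hpow)
  obtain ⟨j, hj⟩ := Nat.exists_eq_succ_of_ne_zero hk0
  have hof : orderOf (e ^ p ^ j) = p := by
    have h1 : orderOf (e ^ p ^ j) = orderOf e / p ^ j := by
      apply orderOf_pow_of_dvd (pow_ne_zero _ hpp.ne_zero)
      rw [hpow, hj]
      exact pow_dvd_pow p (Nat.le_succ j)
    rw [h1, hpow, hj, pow_succ, Nat.mul_div_cancel_left _ (pow_pos hpp.pos j)]
  have hf := (key _ (pow_mem heE _) (hpowx _) p hpp hof).2
  rcases Nat.eq_zero_or_pos j with h0 | hpos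
  · rw [h0, pow_zero, pow_one] at hf
    exact hf
  · exfalso
    obtain ⟨i, hi⟩ := Nat.exists_eq_succ_of_ne_zero hpos.ne'
    have h1 : (e ^ p ^ i) ^ p = e ^ p ^ j := by
      rw [← pow_mul, hi, pow_succ]
    have h2 := hsq (e ^ p ^ i) (pow_mem heE _) (h1 ▸ hf)
    rw [h1] at h2
    rw [h2, orderOf_one] at hof
    exact hpp.one_lt.ne hof

end Cfsg.Agent.Helper62
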