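/-
helper62: Bender–Glauberman, Section 12, Lemma 12.12 (a nonabelian `p`-subgroup lies in a unique
maximal subgroup), conditional on the statements of S1403 (`BGUniq`), S1410 (`BGPLen`),
S1416 (`H16`) and S1417 (`H17`).  Everything lives in `Cfsg.Agent.Helper62.BG12`.
-/
import Cfsg.Agent.Helper22.BG11a
import Cfsg.Agent.Helper24.PLen
import Cfsg.Agent.Helper49.OddCyclic
import Cfsg.Agent.S1412

set_option autoImplicit false

namespace Cfsg.Agent.Helper62.BG12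

open Cfsg Subgroup Cfsg.Agent.Helper22 Cfsg.Agent.Helper23 Cfsg.Agent.Helper35
open scoped Pointwise

universe u

variable {G : Type u} [Group G] [Finite G]

/-- The statement of S1416 (B&G Proposition 12.4) for the group `G`. -/
def H16 (G : Type u) [Group G] : Prop :=
  ∀ (M : Subgroup G), IsCoatom M → ∀ (p : ℕ) [Fact p.Prime] (A : Subgroup G),
    (A ≤ M ∧ Cfsg.IsElementaryAbelian p A ∧ Nat.card A = p ^ 2) →
    Subgroup.centralizer (A : Set G) ≤ M ∧
      ((∀ A₀ : Subgroup G, A₀ ≤ A → Nat.card A₀ = p →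
          ¬ (Subgroup.normalizer (A₀ : Set G) ≤ M ∧
            ∀ L : Subgroup G, IsCoatom L → Subgroup.normalizer (A₀ : Set G) ≤ L → L = M)) →
        p ∈ Cfsg.sigma M ∧ Cfsg.alphaCore M = ⊥ ∧ Group.IsNilpotent (Cfsg.sigmaCore M))

/-- The statement of S1417 (B&G Theorem 12.5) for the group `G`. -/
def H17 (G : Type u) [Group G] : Prop :=
  ∀ (M : Subgroup G), IsCoatom M → ∀ (p : ℕ) [Fact p.Prime], p ∈ Cfsg.tau2 M →
    ∀ (A : Subgroup G), (A ≤ M ∧ Cfsg.IsElementaryAbelian p A ∧ Nat.card A = p ^ 2) →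
    Group.IsNilpotent (Cfsg.sigmaCore M) ∧
      (∀ P : Sylow p M, IsMulCommutative (P : Subgroup M) ∧
        (A ≤ (P : Subgroup M).map M.subtype →
          (∀ x ∈ (P : Subgroup M).map M.subtype, x ^ p = 1 ↔ x ∈ A) ∧
          ¬ Subgroup.normalizer ((((P : Subgroup M).map M.subtype : Subgroup G)) : Set G) ≤ M)) ∧
      M ≤ Subgroup.normalizer ((Cfsg.sigmaCore M ⊔ A : Subgroup G) : Set G) ∧
      Cfsg.sigmaCore M ⊓ Subgroup.centralizer (A : Set G) = ⊥ ∧
      (∀ Mstar : Subgroup G, IsCoatom Mstar → Mstar ≠ M → A ≤ Mstar →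
        Cfsg.sigmaCore M ⊓ Mstar = ⊥) ∧
      ∃ A₁ : Subgroup G, A₁ ≤ A ∧ Nat.card A₁ = p ∧
        Cfsg.sigmaCore M ⊓ Subgroup.centralizer (A₁ : Set G) = ⊥

/-! ### Basic facts -/

omit [Finite G] in
theorem odd_prime_ne_two (hG : IsMinSimpleOddOrder G) {p : ℕ} (hp : p.Prime) {X : Subgroup G}
    (hX : p ∣ Nat.card X) : p ≠ 2 := by
  rintro rfl
  have h1 : Odd (Nat.card X) := hG.1.of_dvd_nat (Subgroup.card_subgroup_dvd_card X)
  exact (Nat.not_even_iff_odd.mpr h1) (even_iff_two_dvd.mpr hX)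

/-- A noncommutative subgroup is not cyclic. -/
theorem not_isCyclic_of_not_comm {P : Subgroup G} (h : ¬ IsMulCommutative P) : ¬ IsCyclic P := by
  intro hc
  exact h IsCyclic.isMulCommutative

/-- A `p`-subgroup (in odd order) which is not cyclic has `p`-rank at least two. -/
theorem not_pRankLE_one_of_not_isCyclic (hG : IsMinSimpleOddOrder G) {p : ℕ} [Fact p.Prime]
    {Q : Subgroup G} (hQ : IsPGroup p Q) (hc : ¬ IsCyclic Q) : ¬ PRankLE p 1 ↥Q := by
  intro hr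
  have hpp : p.Prime := Fact.out
  by_cases hQ1 : Q = ⊥
  · apply hc
    subst hQ1
    exact isCyclic_of_subsingleton
  · have hd := Helper23.dvd_card_of_isPGroup_ne_bot hQ hQ1
    exact hc (Helper49.isCyclic_of_pRankLE_one (odd_prime_ne_two hG hpp hd) hQ hr)

/-- **B&G 12.10(e)** from 10.1 and 12.4: for `p ∈ σ(M)`, the normalizer of a noncyclic
`p`-subgroup of `M` lies in `M`. -/
theorem sigma_norm_le (hG : IsMinSimpleOddOrder G) (hU : BGUniq G) (h16 : H16 G)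
    {M : Subgroup G} (hM : IsCoatom M) {p : ℕ} [Fact p.Prime] (hp : p ∈ sigma M)
    {Q : Subgroup G} (hQ : IsPGroup p Q) (hQM : Q ≤ M) (hc : ¬ IsCyclic Q) :
    normalizer (Q : Set G) ≤ M := by
  have hpp : p.Prime := Fact.out
  have hQ1 : Q ≠ ⊥ := by
    rintro rfl
    exact hc isCyclic_of_subsingleton
  obtain ⟨E, hEQ, hEc, hEp, hEcard⟩ :=
    bg10_exists_elemAb_sq hpp (not_pRankLE_one_of_not_isCyclic hG hQ hc)
  have hEel : IsElementaryAbelian p E :=
    ⟨⟨⟨fun a b => Subtype.ext (hEc a a.2 b b.2)⟩⟩, hEp⟩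
  have hCE := (h16 M hM p E ⟨hEQ.trans hQM, hEel, hEcard⟩).1
  have h2 := (bg10_sigma_fusion hG hU hM hp hQ hQ1 hQM).2
  rw [h2]
  refine sup_le inf_le_left ?_
  exact (centralizer_le (show (E : Set G) ⊆ Q from hEQ)).trans hCE

/-- For `p ∈ σ(M)`, every Sylow `p`-subgroup `S` of `M` has `N_G(S) ≤ M`. -/
theorem sigma_sylow_norm_le {M : Subgroup G} {p : ℕ} [Fact p.Prime] (hp : p ∈ sigma M)
    {S : Subgroup G} (hS : IsSylowOf p S M) : normalizer (S : Set G) ≤ M := by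
  obtain ⟨-, -, P₀, hP₀⟩ := hp
  obtain ⟨h, hh, e⟩ := bg10_sylow_conj (isSylowOf_map P₀) hS
  intro n hn
  have h1 : h⁻¹ * n * h ∈
      normalizer ((((P₀ : Subgroup ↥M).map M.subtype : Subgroup G)) : Set G) := by
    rw [Subgroup.mem_normalizer_iff]
    intro x
    have h2 := (Subgroup.mem_normalizer_iff.mp hn) (h * x * h⁻¹)
    rw [e, mem_conj_smul, mem_conj_smul] at h2
    have e1 : h⁻¹ * (h * x * h⁻¹) * h = x := by group
    have e2 : h⁻¹ * (n * (h * x * h⁻¹) * n⁻¹) * h = h⁻¹ * n * h * x * (h⁻¹ * n * h)⁻¹ := by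
      group
    rw [e1, e2] at h2
    exact h2
  have h3 := hP₀ h1
  have e3 : n = h * (h⁻¹ * n * h) * h⁻¹ := by group
  rw [e3]
  exact M.mul_mem (M.mul_mem hh h3) (M.inv_mem hh)

/-- A maximal subgroup containing a nonabelian `p`-subgroup has `p ∈ σ(M)` (B&G 12.5(b)). -/
theorem sigma_of_nonabelian (hG : IsMinSimpleOddOrder G) (hU : BGUniq G) (h17 : H17 G)
    {M : Subgroup G} (hM : IsCoatom M) {p : ℕ} [Fact p.Prime] {P : Subgroup G}
    (hP : IsPGroup p P) (hPna : ¬ IsMulCommutative P) (hPM : P ≤ M) : p ∈ sigma M := by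
  by_contra hσ
  have hpp : p.Prime := Fact.out
  have hr2 : PRankLE p 2 ↥M :=
    bg10_pRank_of_not_alpha M p hpp (fun h => hσ (bg10_alpha_sub_sigma hG hU hM h))
  have hr1 : ¬ PRankLE p 1 ↥M := by
    intro h
    exact not_pRankLE_one_of_not_isCyclic hG hP (not_isCyclic_of_not_comm hPna)
      (pRankLE_of_le hPM h)
  have hτ : p ∈ tau2 M := ⟨hpp, hσ, hr2, hr1⟩
  obtain ⟨E, hEM, hEc, hEp, hEcard⟩ := bg10_exists_elemAb_sq hpp hr1
  have hEel : IsElementaryAbelian p E :=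
    ⟨⟨⟨fun a b => Subtype.ext (hEc a a.2 b b.2)⟩⟩, hEp⟩
  have h := (h17 M hM p hτ E ⟨hEM, hEel, hEcard⟩).2.1
  obtain ⟨P₀, hP₀⟩ := (hP.comap_subtype (K := M)).exists_le_sylow
  have hcomm := (h P₀).1
  apply hPna
  refine ⟨⟨fun a b => ?_⟩⟩
  have ha : (⟨a.1, hPM a.2⟩ : ↥M) ∈ (P₀ : Subgroup ↥M) :=
    hP₀ (Subgroup.mem_subgroupOf.mpr a.2)
  have hb : (⟨b.1, hPM b.2⟩ : ↥M) ∈ (P₀ : Subgroup ↥M) :=
    hP₀ (Subgroup.mem_subgroupOf.mpr b.2)
  have h1 := hcomm.is_comm.comm ⟨_, ha⟩ ⟨_, hb⟩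
  have h2 := congrArg (fun z : ↥(P₀ : Subgroup ↥M) => ((z : ↥M) : G)) h1
  exact Subtype.ext (by simpa using h2)

/-- Every maximal subgroup containing a nonabelian `p`-subgroup `P` contains every `p`-subgroup
`S ≥ P`. -/
theorem le_of_nonabelian_le (hG : IsMinSimpleOddOrder G) (hU : BGUniq G) (h16 : H16 G)
    (h17 : H17 G) {M : Subgroup G} (hM : IsCoatom M) {p : ℕ} [Fact p.Prime] {P S : Subgroup G}
    (hS : IsPGroup p S) (hPS : P ≤ S) (hPna : ¬ IsMulCommutative P) (hPM : P ≤ M) : S ≤ M := by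
  have hP : IsPGroup p P := hS.to_le hPS
  have hσ := sigma_of_nonabelian hG hU h17 hM hP hPna hPM
  by_contra hSM
  have hQ : IsPGroup p (S ⊓ M : Subgroup G) := hS.to_le inf_le_left
  have hlt : S ⊓ M < S := lt_of_le_of_ne inf_le_left (fun h => hSM (h ▸ inf_le_right))
  have hc : ¬ IsCyclic ↥(S ⊓ M : Subgroup G) := by
    intro hcyc
    apply hPna
    have hcomm : ∀ a ∈ S ⊓ M, ∀ b ∈ S ⊓ M, a * b = b * a := fun a ha b hb =>
      congrArg Subtype.val
        ((IsCyclic.isMulCommutative (α := ↥(S ⊓ M : Subgroup G))).is_comm.comm ⟨a, ha⟩ ⟨b, hb⟩)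
    exact ⟨⟨fun a b => Subtype.ext
      (hcomm a (le_inf hPS hPM a.2) b (le_inf hPS hPM b.2))⟩⟩
  have hN := sigma_norm_le hG hU h16 hM hσ hQ inf_le_right hc
  obtain ⟨x, hxS, hxN, hxQ⟩ := Helper23.exists_mem_normalizer_not_mem Fact.out hS hlt
  exact hxQ (Subgroup.mem_inf.mpr ⟨hxS, hN hxN⟩)

/-! ### Nonabelian Sylow subgroups of rank two (the structure given by S1412) -/

/-- The data of S1412 for a nonabelian Sylow `p`-subgroup `S` of rank at most two. -/
structure R2Data (p : ℕ) (S P₁ P₂ : Subgroup G) : Prop where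
  sup : P₁ ⊔ P₂ = S
  comm : ∀ a ∈ P₁, ∀ b ∈ P₂, a * b = b * a
  na : ¬ IsMulCommutative P₁
  card : Nat.card P₁ = p ^ 3
  exp : Monoid.exponent P₁ = p
  cyc : IsCyclic P₂
  cen : Subgroup.closure {x : G | x ∈ P₂ ∧ x ^ p = 1} = P₁ ⊓ Subgroup.centralizer (P₁ : Set G)

namespace R2Data

variable {p : ℕ} {S P₁ P₂ : Subgroup G}

omit [Finite G] in
theorem le₁ (d : R2Data p S P₁ P₂) : P₁ ≤ S := d.sup ▸ le_sup_left

omit [Finite G] in
theorem pow_p (d : R2Data p S P₁ P₂) : ∀ a ∈ P₁, a ^ p = 1 := by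
  intro a ha
  have h := Monoid.pow_exponent_eq_one (⟨a, ha⟩ : ↥P₁)
  rw [d.exp] at h
  exact congrArg Subtype.val h

omit [Finite G] in
theorem Z_le₂ (d : R2Data p S P₁ P₂) : P₁ ⊓ centralizer (P₁ : Set G) ≤ P₂ := by
  rw [← d.cen, Subgroup.closure_le]
  exact fun x hx => hx.1

omit [Finite G] in
theorem comm₂ (d : R2Data p S P₁ P₂) : ∀ a ∈ P₂, ∀ b ∈ P₂, a * b = b * a := fun a ha b hb =>
  have := d.cyc
  congrArg Subtype.val ((IsCyclic.isMulCommutative (α := ↥P₂)).is_comm.comm ⟨a, ha⟩ ⟨b, hb⟩)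

omit [Finite G] in
/-- `Z = Z(P₁)` is central in `S`. -/
theorem Z_central (d : R2Data p S P₁ P₂) :
    S ≤ centralizer ((P₁ ⊓ centralizer (P₁ : Set G) : Subgroup G) : Set G) := by
  rw [← d.sup]
  refine sup_le (fun a ha => ?_) (fun b hb => ?_)
  · rw [mem_centralizer_iff]
    intro z hz
    exact (mem_centralizer_iff.mp hz.2 a ha).symm
  · rw [mem_centralizer_iff]
    intro z hz
    exact d.comm₂ z (d.Z_le₂ hz) b hb

theorem isPGroup₁ [Fact p.Prime] (d : R2Data p S P₁ P₂) : IsPGroup p ↥P₁ :=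
  IsPGroup.of_card (n := 3) d.card

theorem card_Z [Fact p.Prime] (d : R2Data p S P₁ P₂) :
    Nat.card ↥(P₁ ⊓ centralizer (P₁ : Set G) : Subgroup G) = p := by
  have hpp : p.Prime := Fact.out
  set Z : Subgroup G := P₁ ⊓ centralizer (P₁ : Set G) with hZ
  -- `Z ≠ ⊥`
  have hZ1 : Z ≠ ⊥ := by
    have hnt : Nontrivial ↥P₁ := by
      rw [← Finite.one_lt_card_iff_nontrivial, d.card]
      exact Nat.one_lt_pow (by norm_num) hpp.one_lt
    have hc := d.isPGroup₁.center_nontrivial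
    obtain ⟨c, hc1⟩ := exists_ne (1 : Subgroup.center ↥P₁)
    intro hbot
    have hmem : ((c : ↥P₁) : G) ∈ Z := by
      refine Subgroup.mem_inf.mpr ⟨(c : ↥P₁).2, Subgroup.mem_centralizer_iff.mpr ?_⟩
      intro h hh
      have := Subgroup.mem_center_iff.mp c.2 ⟨h, hh⟩
      exact congrArg Subtype.val this
    rw [hbot, Subgroup.mem_bot] at hmem
    apply hc1
    exact Subtype.ext (Subtype.ext hmem)
  -- `Z` is cyclic of exponent dividing `p`
  have hZ2 : Z ≤ P₂ := d.Z_le₂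
  have hcyc : IsCyclic ↥Z := by
    have := d.cyc
    have h1 : IsCyclic ↥(Z.subgroupOf P₂) := inferInstance
    exact isCyclic_of_surjective (Subgroup.subgroupOfEquivOfLe hZ2).toMonoidHom
      (Subgroup.subgroupOfEquivOfLe hZ2).surjective
  have hexp : Monoid.exponent ↥Z ∣ p := by
    apply Monoid.exponent_dvd_of_forall_pow_eq_one
    intro z
    exact Subtype.ext (by simpa using d.pow_p z.1 z.2.1)
  rw [IsCyclic.exponent_eq_card] at hexp
  rcases (Nat.dvd_prime hpp).mp hexp with h | h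
  · exfalso
    exact hZ1 ((Subgroup.card_eq_one).mp h)
  · exact h

theorem isPGroup_Z [Fact p.Prime] (d : R2Data p S P₁ P₂) :
    IsPGroup p ↥(P₁ ⊓ centralizer (P₁ : Set G) : Subgroup G) :=
  IsPGroup.of_card (n := 1) (by rw [d.card_Z, pow_one])

/-- `[P₁, P₁] ≤ Z(P₁)`. -/
theorem comm_mem [Fact p.Prime] (d : R2Data p S P₁ P₂) :
    ∀ a ∈ P₁, ∀ b ∈ P₁, a * b * a⁻¹ * b⁻¹ ∈ P₁ ⊓ centralizer (P₁ : Set G) := by
  intro a ha b hb
  have hpp : p.Prime := Fact.out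
  have hmap : (Subgroup.center ↥P₁).map P₁.subtype = P₁ ⊓ centralizer (P₁ : Set G) := by
    ext x
    constructor
    · rintro ⟨c, hc, rfl⟩
      refine Subgroup.mem_inf.mpr ⟨c.2, Subgroup.mem_centralizer_iff.mpr ?_⟩
      intro h hh
      have := Subgroup.mem_center_iff.mp hc ⟨h, hh⟩
      exact congrArg Subtype.val this
    · intro hx
      obtain ⟨hx1, hx2⟩ := Subgroup.mem_inf.mp hx
      refine ⟨⟨x, hx1⟩, Subgroup.mem_center_iff.mpr ?_, rfl⟩
      intro g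
      exact Subtype.ext ((mem_centralizer_iff.mp hx2) g g.2)
  have hcc : Nat.card (Subgroup.center ↥P₁) = p := by
    rw [← Subgroup.card_map_of_injective P₁.subtype_injective, hmap]
    exact d.card_Z
  have hq : Nat.card (↥P₁ ⧸ Subgroup.center ↥P₁) = p ^ 2 := by
    have h1 := Subgroup.card_eq_card_quotient_mul_card_subgroup (Subgroup.center ↥P₁)
    rw [d.card, hcc] at h1
    have h2 : p ^ 3 = p ^ 2 * p := by ring
    rw [h2] at h1
    exact (Nat.eq_of_mul_eq_mul_right hpp.pos h1).symm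
  have hc : ∀ x y : ↥P₁ ⧸ Subgroup.center ↥P₁, x * y = y * x :=
    (IsPGroup.isMulCommutative_of_card_eq_prime_sq hq).is_comm.comm
  have h3 : ((⟨a, ha⟩ * ⟨b, hb⟩ * (⟨a, ha⟩ : ↥P₁)⁻¹ * (⟨b, hb⟩ : ↥P₁)⁻¹ : ↥P₁) :
      ↥P₁ ⧸ Subgroup.center ↥P₁) = 1 := by
    rw [QuotientGroup.mk_mul, QuotientGroup.mk_mul, QuotientGroup.mk_mul, QuotientGroup.mk_inv,
      QuotientGroup.mk_inv, hc (↑(⟨a, ha⟩ : ↥P₁)) (↑(⟨b, hb⟩ : ↥P₁))]
    group
  have h4 := (QuotientGroup.eq_one_iff _).mp h3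
  rw [← hmap]
  exact ⟨_, h4, rfl⟩

omit [Finite G] in
theorem exists_not_mem (d : R2Data p S P₁ P₂) :
    ∃ a ∈ P₁, a ∉ P₁ ⊓ centralizer (P₁ : Set G) := by
  by_contra hcon
  push Not at hcon
  apply d.na
  refine ⟨⟨fun a b => ?_⟩⟩
  have h := (hcon b.1 b.2).2
  exact Subtype.ext ((mem_centralizer_iff.mp h) a.1 a.2)

/-- For `a ∈ P₁ ∖ Z`, the subgroup `⟨a⟩ Z` is elementary abelian of order `p ^ 2`. -/
theorem elemAb [Fact p.Prime] (d : R2Data p S P₁ P₂) {a : G} (ha : a ∈ P₁)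
    (haZ : a ∉ P₁ ⊓ centralizer (P₁ : Set G)) :
    Nat.card (zpowers a) = p ∧ zpowers a ≠ P₁ ⊓ centralizer (P₁ : Set G) ∧
    IsElementaryAbelian p (zpowers a ⊔ (P₁ ⊓ centralizer (P₁ : Set G))) ∧
      Nat.card ↥(zpowers a ⊔ (P₁ ⊓ centralizer (P₁ : Set G)) : Subgroup G) = p ^ 2 ∧
      zpowers a ⊔ (P₁ ⊓ centralizer (P₁ : Set G)) ≤ P₁ := by
  have hpp : p.Prime := Fact.out
  have ha1 : a ≠ 1 := by
    rintro rfl
    exact haZ (one_mem _)
  have hord : orderOf a = p := orderOf_eq_prime (d.pow_p a ha) ha1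
  have hcard : Nat.card (zpowers a) = p := by rw [Nat.card_zpowers, hord]
  have hne : zpowers a ≠ P₁ ⊓ centralizer (P₁ : Set G) := by
    intro h
    exact haZ (h ▸ mem_zpowers a)
  have hcomm : ∀ y ∈ zpowers a, ∀ z ∈ P₁ ⊓ centralizer (P₁ : Set G), y * z = z * y := by
    intro y hy z hz
    have hyP : y ∈ P₁ := (zpowers_le.mpr ha) hy
    exact mem_centralizer_iff.mp hz.2 y hyP
  obtain ⟨h1, h2⟩ := bg10_sup_elemAb hpp hcard d.card_Z hne hcomm
  exact ⟨hcard, hne, h1, h2, sup_le (zpowers_le.mpr ha) inf_le_left⟩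

end R2Data

/-! ### Conjugation of normalizers -/

omit [Finite G] in
theorem normalizer_conj_le {L X : Subgroup G} {y : G} (hy : y ∈ L)
    (h : normalizer (X : Set G) ≤ L) : normalizer ((MulAut.conj y • X : Subgroup G) : Set G) ≤ L := by
  intro n hn
  have h1 : y⁻¹ * n * y ∈ normalizer (X : Set G) := by
    rw [Subgroup.mem_normalizer_iff]
    intro x
    have h2 := (Subgroup.mem_normalizer_iff.mp hn) (y * x * y⁻¹)
    rw [mem_conj_smul, mem_conj_smul] at h2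
    have e1 : y⁻¹ * (y * x * y⁻¹) * y = x := by group
    have e2 : y⁻¹ * (n * (y * x * y⁻¹) * n⁻¹) * y = y⁻¹ * n * y * x * (y⁻¹ * n * y)⁻¹ := by
      group
    rw [e1, e2] at h2
    exact h2
  have h3 := h h1
  have e3 : n = y * (y⁻¹ * n * y) * y⁻¹ := by group
  rw [e3]
  exact L.mul_mem (L.mul_mem hy h3) (L.inv_mem hy)

omit [Finite G] in
theorem conj_smul_zpowers (y a : G) : MulAut.conj y • zpowers a = zpowers (y * a * y⁻¹) := by
  ext x
  rw [mem_conj_smul, mem_zpowers_iff, mem_zpowers_iff]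
  constructor
  · rintro ⟨k, hk⟩
    refine ⟨k, ?_⟩
    rw [conj_zpow, hk]; group
  · rintro ⟨k, hk⟩
    refine ⟨k, ?_⟩
    rw [← hk, conj_zpow]; group

/-- A nonidentity element of a subgroup of prime order generates it. -/
theorem zpowers_eq_of_card_prime {p : ℕ} (hp : p.Prime) {X : Subgroup G} (hX : Nat.card X = p)
    {x : G} (hx : x ∈ X) (hx1 : x ≠ 1) : zpowers x = X := by
  apply Subgroup.eq_of_le_of_card_ge (zpowers_le.mpr hx)
  have h1 : orderOf x = p := by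
    have h2 : orderOf x ∣ p := by
      have h3 := orderOf_dvd_natCard (⟨x, hx⟩ : ↥X)
      rw [hX] at h3
      rwa [← Subgroup.orderOf_coe] at h3
    rcases (Nat.dvd_prime hp).mp h2 with h4 | h4
    · exact absurd (orderOf_eq_one_iff.mp h4) hx1
    · exact h4
  rw [hX, Nat.card_zpowers, h1]

namespace R2Data

variable {p : ℕ} {S P₁ P₂ : Subgroup G}

/-- The subgroups of order `p` of `⟨a⟩ Z` other than `Z` are conjugate to `⟨a⟩` under `P₁`. -/
theorem conj_line [Fact p.Prime] (d : R2Data p S P₁ P₂) {a : G} (ha : a ∈ P₁)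
    (haZ : a ∉ P₁ ⊓ centralizer (P₁ : Set G)) {X : Subgroup G}
    (hX : X ≤ zpowers a ⊔ (P₁ ⊓ centralizer (P₁ : Set G))) (hXc : Nat.card X = p)
    (hXZ : X ≠ P₁ ⊓ centralizer (P₁ : Set G)) :
    ∃ y ∈ P₁, X = MulAut.conj y • zpowers a := by
  have hpp : p.Prime := Fact.out
  set Z : Subgroup G := P₁ ⊓ centralizer (P₁ : Set G) with hZ
  obtain ⟨hac, -, -, -, -⟩ := d.elemAb ha haZ
  have hZc : Nat.card Z = p := d.card_Z
  -- `Z` commutes with `P₁`
  have hZcomm : ∀ z ∈ Z, ∀ x ∈ P₁, z * x = x * z := fun z hz x hx =>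
    (mem_centralizer_iff.mp hz.2 x hx).symm
  -- a generator `x₀` of `X` outside `Z`
  have hXnot : ¬ X ≤ Z := by
    intro hle
    exact hXZ (Subgroup.eq_of_le_of_card_ge hle (by rw [hXc, hZc]))
  obtain ⟨x₀, hx₀X, hx₀Z⟩ := SetLike.not_le_iff_exists.mp hXnot
  -- `x₀ = z * a ^ k`
  have hnorm : zpowers a ≤ normalizer (Z : Set G) := by
    rw [zpowers_le]
    apply centralizer_le_normalizer
    rw [mem_centralizer_iff]
    intro z hz
    exact hZcomm z hz a ha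
  have hx₀sup : x₀ ∈ Z ⊔ zpowers a := by
    rw [sup_comm]; exact hX hx₀X
  obtain ⟨z, hz, w, hw, e⟩ := Helper35.exists_mul_of_mem_sup_of_le_normalizer hnorm hx₀sup
  have hw1 : w ≠ 1 := by
    rintro rfl
    rw [mul_one] at e
    exact hx₀Z (e ▸ hz)
  -- `a ∈ ⟨w⟩`
  have hwz : zpowers w = zpowers a := zpowers_eq_of_card_prime hpp hac hw hw1
  have haw : a ∈ zpowers w := hwz ▸ mem_zpowers a
  obtain ⟨j, hj⟩ := mem_zpowers_iff.mp haw
  -- `x₁ = x₀ ^ j = z ^ j * a`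
  have hzw : Commute z w := hZcomm z hz w ((zpowers_le.mpr ha) hw)
  have hx₁ : x₀ ^ j = z ^ j * a := by
    rw [e, hzw.mul_zpow, hj]
  have hx₁X : z ^ j * a ∈ X := hx₁ ▸ X.zpow_mem hx₀X j
  -- a noncentral element `y₀`
  have hex : ∃ y₀ ∈ P₁, y₀ * a ≠ a * y₀ := by
    by_contra hcon
    push Not at hcon
    apply haZ
    refine Subgroup.mem_inf.mpr ⟨ha, Subgroup.mem_centralizer_iff.mpr ?_⟩
    intro y hy
    exact hcon y hy
  obtain ⟨y₀, hy₀, hy₀a⟩ := hex
  set z₀ : G := y₀ * a * y₀⁻¹ * a⁻¹ with hz₀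
  have hz₀Z : z₀ ∈ Z := d.comm_mem y₀ hy₀ a ha
  have hz₀1 : z₀ ≠ 1 := by
    intro h
    apply hy₀a
    have h1 : y₀ * a = z₀ * a * y₀ := by rw [hz₀]; group
    rw [h1, h, one_mul]
  have hgen : zpowers z₀ = Z := zpowers_eq_of_card_prime hpp hZc hz₀Z hz₀1
  have hzj : z ^ j ∈ zpowers z₀ := hgen ▸ Z.zpow_mem hz j
  obtain ⟨n, hn⟩ := mem_zpowers_iff.mp hzj
  -- `y₀ ^ n * a * y₀ ^ (-n) = z₀ ^ n * a`
  have hconj : ∀ m : ℕ, y₀ ^ m * a * (y₀ ^ m)⁻¹ = z₀ ^ m * a := by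
    intro m
    induction m with
    | zero => simp
    | succ m ih =>
      have hc : Commute (z₀ ^ m) y₀ := (hZcomm _ (Z.pow_mem hz₀Z m) y₀ hy₀)
      have hc2 : Commute (z₀ ^ m) z₀ := (Commute.refl z₀).pow_left m
      calc y₀ ^ (m + 1) * a * (y₀ ^ (m + 1))⁻¹
          = y₀ * (y₀ ^ m * a * (y₀ ^ m)⁻¹) * y₀⁻¹ := by rw [pow_succ']; group
        _ = y₀ * (z₀ ^ m * a) * y₀⁻¹ := by rw [ih]
        _ = z₀ ^ m * (y₀ * a * y₀⁻¹) := by
            rw [← mul_assoc, ← hc.eq]; group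
        _ = z₀ ^ m * (z₀ * a) := by rw [hz₀]; group
        _ = z₀ ^ (m + 1) * a := by rw [pow_succ]; group
  -- integer exponents
  have hconjZ : ∀ m : ℤ, y₀ ^ m * a * (y₀ ^ m)⁻¹ = z₀ ^ m * a := by
    intro m
    obtain ⟨k, hk⟩ : ∃ k : ℕ, y₀ ^ m = y₀ ^ k ∧ z₀ ^ m = z₀ ^ k := by
      have hy₀fin : IsOfFinOrder y₀ := isOfFinOrder_of_finite y₀
      -- choose `k ≡ m` modulo `orderOf y₀ * orderOf z₀`
      set N : ℕ := orderOf y₀ * orderOf z₀ with hN
      have hNpos : 0 < N := Nat.mul_pos (orderOf_pos y₀) (orderOf_pos z₀)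
      refine ⟨(m % (N : ℤ)).toNat, ?_, ?_⟩
      · have h1 : ((m % (N : ℤ)).toNat : ℤ) = m % (N : ℤ) :=
          Int.toNat_of_nonneg (Int.emod_nonneg _ (by exact_mod_cast hNpos.ne'))
        rw [← zpow_natCast, h1]
        have h2 : m = m % (N : ℤ) + (N : ℤ) * (m / (N : ℤ)) := (Int.emod_add_mul_ediv m N).symm
        conv_lhs => rw [h2]
        rw [zpow_add, zpow_mul, zpow_natCast, hN, pow_mul, pow_orderOf_eq_one, one_pow, one_zpow,
          mul_one]
      · have h1 : ((m % (N : ℤ)).toNat : ℤ) = m % (N : ℤ) :=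
          Int.toNat_of_nonneg (Int.emod_nonneg _ (by exact_mod_cast hNpos.ne'))
        rw [← zpow_natCast, h1]
        have h2 : m = m % (N : ℤ) + (N : ℤ) * (m / (N : ℤ)) := (Int.emod_add_mul_ediv m N).symm
        conv_lhs => rw [h2]
        rw [zpow_add, zpow_mul, zpow_natCast, hN, mul_comm (orderOf y₀), pow_mul,
          pow_orderOf_eq_one, one_pow, one_zpow, mul_one]
    rw [hk.1, hk.2]
    exact hconj k
  refine ⟨y₀ ^ n, P₁.zpow_mem hy₀ n, ?_⟩
  rw [conj_smul_zpowers, hconjZ n, hn]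
  -- `X = ⟨z ^ j * a⟩`
  symm
  have hne1 : z ^ j * a ≠ 1 := by
    intro h
    apply haZ
    have : a = (z ^ j)⁻¹ := by
      rw [eq_inv_iff_mul_eq_one]
      have hc : Commute (z ^ j) a := (show Commute z a from hZcomm z hz a ha).zpow_left j
      rw [← hc.eq]; exact h
    rw [this]
    exact Z.inv_mem (Z.zpow_mem hz j)
  exact zpowers_eq_of_card_prime hpp hXc hx₁X hne1

end R2Data

/-! ### Generation through the quotient by a central subgroup -/

/-- Let `Z ≤ P₁` be central in `P₁` with `[P₁, P₁] ≤ Z` and `P₁` nonabelian, and let `D` be a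
`P₁`-invariant subgroup of `C_G(Z)` of order prime to `|P₁|`.  If `C_D(b) ≤ L` for every
`b ∈ P₁ ∖ Z` (and `Z ≤ L`), then `D ≤ L`. -/
theorem quot_gen {Z P₁ D L : Subgroup G} (hZP : Z ≤ P₁) (hPZ : P₁ ≤ centralizer (Z : Set G))
    (hcomm : ∀ a ∈ P₁, ∀ b ∈ P₁, a * b * a⁻¹ * b⁻¹ ∈ Z) (hna : ¬ IsMulCommutative P₁)
    (hPD : P₁ ≤ normalizer (D : Set G)) (hDZ : D ≤ centralizer (Z : Set G))
    (hcop : (Nat.card P₁).Coprime (Nat.card D))
    (hL : ∀ b ∈ P₁, b ∉ Z → D ⊓ centralizer ({b} : Set G) ≤ L) (hZL : Z ≤ L) : D ≤ L := by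
  set H : Subgroup G := centralizer (Z : Set G) with hH
  have hZH : Z ≤ H := hZP.trans hPZ
  haveI hN : (Z.subgroupOf H).Normal := by
    constructor
    intro n hn g
    rw [Subgroup.mem_subgroupOf] at hn ⊢
    have h1 := (mem_centralizer_iff.mp g.2) (n : G) hn
    have h2 : ((g * n * g⁻¹ : ↥H) : G) = (n : G) := by
      push_cast
      rw [← h1]; group
    rw [h2]; exact hn
  set π : ↥H →* ↥H ⧸ Z.subgroupOf H := QuotientGroup.mk' (Z.subgroupOf H) with hπ
  have hπeq : ∀ x y : ↥H, π x = π y ↔ ((x : G)⁻¹ * (y : G)) ∈ Z := by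
    intro x y
    rw [hπ, QuotientGroup.mk'_apply, QuotientGroup.mk'_apply, QuotientGroup.eq,
      Subgroup.mem_subgroupOf]
    simp
  set Abar : Subgroup (↥H ⧸ Z.subgroupOf H) := (P₁.subgroupOf H).map π with hAbar
  set Kbar : Subgroup (↥H ⧸ Z.subgroupOf H) := (D.subgroupOf H).map π with hKbar
  set Lbar : Subgroup (↥H ⧸ Z.subgroupOf H) := (L.subgroupOf H).map π with hLbar
  have hZcomm : ∀ z ∈ Z, ∀ x ∈ P₁, z * x = x * z := fun z hz x hx =>
    (mem_centralizer_iff.mp (hPZ hx) z hz)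
  have hAab : ∀ a ∈ Abar, ∀ b ∈ Abar, a * b = b * a := by
    rintro _ ⟨a, ha, rfl⟩ _ ⟨b, hb, rfl⟩
    replace ha : (a : G) ∈ P₁ := Subgroup.mem_subgroupOf.mp ha
    replace hb : (b : G) ∈ P₁ := Subgroup.mem_subgroupOf.mp hb
    rw [← map_mul, ← map_mul, hπeq]
    have h1 := hcomm _ (P₁.inv_mem hb) _ (P₁.inv_mem ha)
    have e : ((a * b : ↥H) : G)⁻¹ * ((b * a : ↥H) : G) = (b : G)⁻¹ * (a : G)⁻¹ * ((b : G)⁻¹)⁻¹ *
        ((a : G)⁻¹)⁻¹ := by
      push_cast; group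
    rw [e]; exact h1
  have hA : ¬ ∃ a ∈ Abar, zpowers a = Abar := by
    rintro ⟨_, ⟨a, ha, rfl⟩, hz⟩
    replace ha : (a : G) ∈ P₁ := Subgroup.mem_subgroupOf.mp ha
    apply hna
    have key : ∀ x ∈ P₁, ∃ k : ℤ, ∃ z ∈ Z, x = (a : G) ^ k * z := by
      intro x hx
      have hxH : x ∈ H := hPZ hx
      have h1 : π ⟨x, hxH⟩ ∈ Abar := ⟨⟨x, hxH⟩, Subgroup.mem_subgroupOf.mpr hx, rfl⟩
      rw [← hz, mem_zpowers_iff] at h1
      obtain ⟨k, hk⟩ := h1
      rw [← map_zpow, hπeq] at hk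
      refine ⟨k, _, hk, ?_⟩
      push_cast; group
    refine ⟨⟨fun x y => ?_⟩⟩
    obtain ⟨k, z, hz, ex⟩ := key x x.2
    obtain ⟨l, w, hw, ey⟩ := key y y.2
    apply Subtype.ext
    have c1 : Commute z ((a : G) ^ l) := hZcomm z hz _ (P₁.zpow_mem ha l)
    have c2 : Commute w ((a : G) ^ k) := hZcomm w hw _ (P₁.zpow_mem ha k)
    have c3 : Commute z w := hZcomm z hz w (hZP hw)
    have c4 : Commute ((a : G) ^ k) ((a : G) ^ l) := (Commute.refl (a : G)).zpow_zpow k l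
    show (x : G) * (y : G) = (y : G) * (x : G)
    rw [ex, ey]
    calc (a : G) ^ k * z * ((a : G) ^ l * w) = (a : G) ^ k * (z * (a : G) ^ l) * w := by group
      _ = (a : G) ^ k * ((a : G) ^ l * z) * w := by rw [c1.eq]
      _ = ((a : G) ^ k * (a : G) ^ l) * (z * w) := by group
      _ = ((a : G) ^ l * (a : G) ^ k) * (w * z) := by rw [c4.eq, c3.eq]
      _ = (a : G) ^ l * ((a : G) ^ k * w) * z := by group
      _ = (a : G) ^ l * (w * (a : G) ^ k) * z := by rw [c2.eq]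
      _ = (a : G) ^ l * w * ((a : G) ^ k * z) := by group
  have hAK : Abar ≤ normalizer (Kbar : Set (↥H ⧸ Z.subgroupOf H)) := by
    have h1 : P₁.subgroupOf H ≤ normalizer ((D.subgroupOf H : Subgroup ↥H) : Set ↥H) := by
      intro a ha
      rw [Subgroup.mem_subgroupOf] at ha
      rw [Subgroup.mem_normalizer_iff]
      intro x
      rw [Subgroup.mem_subgroupOf, Subgroup.mem_subgroupOf]
      have h2 := Subgroup.mem_normalizer_iff.mp (hPD ha) (x : G)
      rw [h2]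
      simp
    exact (Subgroup.map_mono h1).trans (Subgroup.le_normalizer_map π)
  have hcop' : (Nat.card Abar).Coprime (Nat.card Kbar) := by
    have h1 : Nat.card Abar ∣ Nat.card P₁ := by
      have := Subgroup.card_map_dvd (H := P₁.subgroupOf H) π
      rwa [Helper35.card_subgroupOf_of_le (hPZ : P₁ ≤ H)] at this
    have h2 : Nat.card Kbar ∣ Nat.card D := by
      have := Subgroup.card_map_dvd (H := D.subgroupOf H) π
      rwa [Helper35.card_subgroupOf_of_le (hDZ : D ≤ H)] at this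
    exact Nat.Coprime.coprime_dvd_left h1 (Nat.Coprime.coprime_dvd_right h2 hcop)
  have hDZbot : D ⊓ Z = ⊥ := by
    exact (Subgroup.disjoint_of_coprime_natCard
      (Nat.Coprime.coprime_dvd_left (Subgroup.card_dvd_of_le hZP) hcop).symm).eq_bot
  have gen := coprime_gen_nonidentity hAab hA hAK hcop'
  have hKL : Kbar ≤ Lbar := by
    rw [gen]
    refine iSup₂_le ?_
    rintro B ⟨hBA, hB1⟩
    obtain ⟨⟨b', hb'B⟩, hb'1⟩ := (Subgroup.ne_bot_iff_exists_ne_one).mp hB1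
    obtain ⟨b, hb, rfl⟩ := hBA hb'B
    replace hb : (b : G) ∈ P₁ := Subgroup.mem_subgroupOf.mp hb
    intro u hu
    obtain ⟨⟨k, hk, rfl⟩, hcent⟩ := Subgroup.mem_inf.mp hu
    replace hk : (k : G) ∈ D := Subgroup.mem_subgroupOf.mp hk
    have hc := (mem_centralizer_iff.mp hcent) (π b) hb'B
    rw [← map_mul, ← map_mul, hπeq] at hc
    -- `(b k)⁻¹ (k b) ∈ Z ⊓ D`
    have hmem : ((b * k : ↥H) : G)⁻¹ * ((k * b : ↥H) : G) ∈ D ⊓ Z := by
      refine Subgroup.mem_inf.mpr ⟨?_, hc⟩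
      have h1 : (b : G)⁻¹ * (k : G) * ((b : G)⁻¹)⁻¹ ∈ D :=
        (Subgroup.mem_normalizer_iff.mp (hPD (P₁.inv_mem hb)) (k : G)).mp hk
      have e : ((b * k : ↥H) : G)⁻¹ * ((k * b : ↥H) : G) =
          (k : G)⁻¹ * ((b : G)⁻¹ * (k : G) * ((b : G)⁻¹)⁻¹) := by
        push_cast; group
      rw [e]
      exact D.mul_mem (D.inv_mem hk) h1
    rw [hDZbot, Subgroup.mem_bot] at hmem
    have hbk : (b : G) * (k : G) = (k : G) * (b : G) := by
      have h1 : ((b * k : ↥H) : G) = ((k * b : ↥H) : G) := by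
        rw [← mul_one ((b * k : ↥H) : G), ← hmem]; group
      simpa using h1
    have hbZ : (b : G) ∉ Z := by
      intro h
      apply hb'1
      apply Subtype.ext
      show π b = 1
      rw [← map_one π, hπeq]
      simpa using h
    have hkL : (k : G) ∈ L := by
      apply hL (b : G) hb hbZ
      refine Subgroup.mem_inf.mpr ⟨hk, ?_⟩
      rw [Subgroup.mem_centralizer_iff]
      intro y hy
      rw [Set.mem_singleton_iff] at hy
      rw [hy]; exact hbk
    exact ⟨k, Subgroup.mem_subgroupOf.mpr hkL, rfl⟩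
  intro x hx
  have hxH : x ∈ H := hDZ hx
  have h1 : π ⟨x, hxH⟩ ∈ Lbar := hKL ⟨⟨x, hxH⟩, Subgroup.mem_subgroupOf.mpr hx, rfl⟩
  obtain ⟨m, hm, hmd⟩ := h1
  replace hm : (m : G) ∈ L := Subgroup.mem_subgroupOf.mp hm
  rw [hπeq] at hmd
  have e : x = (m : G) * ((m : G)⁻¹ * x) := by group
  rw [e]
  exact L.mul_mem hm (hZL hmd)

/-! ### The rank two case of Lemma 12.12 -/

namespace R2Data

variable {p : ℕ} {S P₁ P₂ : Subgroup G}

/-- If `N_G(⟨a⟩) ≤ L` for some `a ∈ P₁ ∖ Z` (`L` maximal, `S ≤ L`), then every `S`-invariant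
`p'`-subgroup of `G` lies in `L`. -/
theorem inv_le [Fact p.Prime] (d : R2Data p S P₁ P₂) (h16 : H16 G) {a : G} (ha : a ∈ P₁)
    (haZ : a ∉ P₁ ⊓ centralizer (P₁ : Set G)) {L : Subgroup G} (hL : IsCoatom L) (hSL : S ≤ L)
    (hN : normalizer ((zpowers a : Subgroup G) : Set G) ≤ L)
    {D : Subgroup G} (hSD : S ≤ normalizer (D : Set G)) (hcop : (Nat.card D).Coprime p) :
    D ≤ L := by
  have hpp : p.Prime := Fact.out
  set Z : Subgroup G := P₁ ⊓ centralizer (P₁ : Set G) with hZ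
  obtain ⟨hac, hane, hAel, hAcard, hAP⟩ := d.elemAb ha haZ
  set A : Subgroup G := zpowers a ⊔ Z with hA
  have hAab := bg11_elemAb_comm hAel
  have hAS : A ≤ S := hAP.trans d.le₁
  have hAnc : ¬ ∃ x ∈ A, zpowers x = A := by
    rintro ⟨x, hx, hxA⟩
    have h1 : Nat.card (zpowers x) ≤ p := by
      rw [Nat.card_zpowers]
      exact Nat.le_of_dvd hpp.pos (orderOf_dvd_of_pow_eq_one (hAel.2 x hx))
    rw [hxA, hAcard] at h1
    have h2 : p < p ^ 2 := by
      calc p = p ^ 1 := (pow_one p).symm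
        _ < p ^ 2 := Nat.pow_lt_pow_right hpp.one_lt (by norm_num)
    omega
  have hAD : A ≤ normalizer (D : Set G) := hAS.trans hSD
  have hcopA : (Nat.card A).Coprime (Nat.card D) := by
    rw [hAcard]
    exact Nat.Coprime.pow_left 2 hcop.symm
  have gen := coprime_gen_nonidentity hAab hAnc hAD hcopA
  rw [gen]
  refine iSup₂_le ?_
  rintro B ⟨hBA, hB1⟩
  obtain ⟨⟨b, hbB⟩, hb1⟩ := (Subgroup.ne_bot_iff_exists_ne_one).mp hB1
  have hb1' : b ≠ 1 := fun h => hb1 (Subtype.ext h)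
  have hbA : b ∈ A := hBA hbB
  have hYc : Nat.card (zpowers b) = p := by
    rw [Nat.card_zpowers]
    exact orderOf_eq_prime (hAel.2 b hbA) hb1'
  have hYB : zpowers b ≤ B := zpowers_le.mpr hbB
  have hle : D ⊓ centralizer (B : Set G) ≤ D ⊓ centralizer ((zpowers b : Subgroup G) : Set G) :=
    inf_le_inf_left D (centralizer_le (show ((zpowers b : Subgroup G) : Set G) ⊆ B from hYB))
  refine hle.trans ?_
  by_cases hY : zpowers b = Z
  · rw [hY]
    have hPZ : P₁ ≤ centralizer (Z : Set G) := d.le₁.trans d.Z_central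
    apply quot_gen (inf_le_left : Z ≤ P₁) hPZ d.comm_mem d.na
      (bg10_le_normalizer_inf_centralizer (d.le₁.trans hSD) hPZ) inf_le_right
    · rw [d.card]
      exact Nat.Coprime.pow_left 3
        (Nat.Coprime.coprime_dvd_left (Subgroup.card_dvd_of_le inf_le_left) hcop).symm
    · intro b' hb' hb'Z
      obtain ⟨-, -, hA'el, hA'card, hA'P⟩ := d.elemAb hb' hb'Z
      have hC := (h16 L hL p _ ⟨(hA'P.trans d.le₁).trans hSL, hA'el, hA'card⟩).1
      refine le_trans ?_ hC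
      intro x hx
      obtain ⟨hx1, hx2⟩ := Subgroup.mem_inf.mp hx
      obtain ⟨-, hx3⟩ := Subgroup.mem_inf.mp hx1
      have h1 : zpowers b' ⊔ Z ≤ centralizer ({x} : Set G) := by
        refine sup_le ?_ ?_
        · rw [zpowers_le, Subgroup.mem_centralizer_iff]
          intro y hy
          rw [Set.mem_singleton_iff] at hy
          rw [hy]
          exact ((Subgroup.mem_centralizer_iff.mp hx2) b' (Set.mem_singleton b')).symm
        · intro z hz
          rw [Subgroup.mem_centralizer_iff]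
          intro y hy
          rw [Set.mem_singleton_iff] at hy
          rw [hy]
          exact ((Subgroup.mem_centralizer_iff.mp hx3) z hz).symm
      rw [Subgroup.mem_centralizer_iff]
      intro y hy
      exact ((Subgroup.mem_centralizer_iff.mp (h1 hy)) x (Set.mem_singleton x)).symm
    · exact (inf_le_left.trans d.le₁).trans hSL
  · obtain ⟨y, hy, hXy⟩ := d.conj_line ha haZ (zpowers_le.mpr hbA) hYc hY
    have h1 := normalizer_conj_le (hSL (d.le₁ hy)) hN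
    rw [← hXy] at h1
    exact (inf_le_right.trans (centralizer_le_normalizer _)).trans h1

end R2Data

/-- If every `S`-invariant `p'`-subgroup of `G` lies in `L` and `N_G(S) ≤ L`, then `M ≤ L`
(`S` a Sylow `p`-subgroup of `M`; Frattini argument and `p`-length one). -/
theorem le_of_inv_le (hpl : BGPLen G) {M L S : Subgroup G} {p : ℕ} [Fact p.Prime]
    (hM : IsCoatom M) (hS : IsSylowOf p S M) (hNL : normalizer (S : Set G) ≤ L)
    (hinv : ∀ D : Subgroup G, S ≤ normalizer (D : Set G) → (Nat.card D).Coprime p → D ≤ L) :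
    M ≤ L := by
  have hK : Helper34.coreIn p M ≤ L :=
    hinv _ (hS.1.trans (uq_le_normalizer_coreIn p M)) (Helper34.card_coreIn_coprime p M)
  obtain ⟨P₀, hP₀⟩ := hS.exists_sylow
  have hfr := Helper24.normalizer_sup_pPrimeCore_eq_top p (hpl p M hM.1) P₀
  intro m hm
  have hmem : (⟨m, hm⟩ : ↥M) ∈ pPrimeCore p ↥M ⊔
      normalizer ((P₀ : Subgroup ↥M) : Set ↥M) := by
    rw [sup_comm, hfr]; exact Subgroup.mem_top _
  obtain ⟨k, hk, n, hn, e⟩ := Helper35.exists_mul_of_mem_sup_normal hmem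
  have hkL : (k : G) ∈ L := hK ⟨k, hk, rfl⟩
  have hnL : (n : G) ∈ L := by
    apply hNL
    rw [Subgroup.mem_normalizer_iff]
    intro x
    have h1 := Subgroup.mem_normalizer_iff.mp hn
    constructor
    · intro hx
      have h2 := (h1 ⟨x, hS.1 hx⟩).mp (by rw [hP₀]; exact Subgroup.mem_subgroupOf.mpr hx)
      rw [hP₀, Subgroup.mem_subgroupOf] at h2
      simpa using h2
    · intro hx
      have hxM : x ∈ M := by
        have h3 : (n : G)⁻¹ * ((n : G) * x * (n : G)⁻¹) * (n : G) ∈ M :=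
          M.mul_mem (M.mul_mem (M.inv_mem n.2) (hS.1 hx)) n.2
        have e3 : (n : G)⁻¹ * ((n : G) * x * (n : G)⁻¹) * (n : G) = x := by group
        rwa [e3] at h3
      have h2 := (h1 ⟨x, hxM⟩).mpr (by
        rw [hP₀, Subgroup.mem_subgroupOf]
        simpa using hx)
      rw [hP₀, Subgroup.mem_subgroupOf] at h2
      exact h2
  have e' : m = (k : G) * (n : G) := by
    have := congrArg (fun z : ↥M => (z : G)) e
    simpa using this
  rw [e']
  exact L.mul_mem hkL hnL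

theorem not_dvd_relIndex_of_isSylowOf {p : ℕ} [Fact p.Prime] {S N : Subgroup G}
    (hS : IsSylowOf p S N) : ¬ p ∣ S.relIndex N := by
  obtain ⟨P₀, hP₀⟩ := hS.exists_sylow
  have h := Sylow.not_dvd_index P₀
  rwa [hP₀] at h

/-- If `M_σ` is nilpotent and `p ∈ σ(M)`, a Sylow `p`-subgroup `S ≠ 1` of `M` has
`N_G(S) = M`. -/
theorem normalizer_sylow_eq_of_nilpotent (hG : IsMinSimpleOddOrder G) (hU : BGUniq G)
    {L S : Subgroup G} {p : ℕ} [Fact p.Prime] (hL : IsCoatom L) (hσ : p ∈ sigma L)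
    (hS : IsSylowOf p S L) (hS1 : S ≠ ⊥) (hnil : Group.IsNilpotent ↥(sigmaCore L)) :
    normalizer (S : Set G) = L := by
  have hpp : p.Prime := Fact.out
  have hHall := (bg10_sigma_hall hG hU hL).1
  have hNL : L ≤ normalizer (sigmaCore L : Set G) := le_normalizer_piCoreOf (sigma L) L
  have hSN : S ≤ sigmaCore L := by
    apply bg12_le_of_coprime_relIndex hHall.1 hS.1 (hS.1.trans hNL)
    obtain ⟨n, hn⟩ := IsPGroup.iff_card.mp hS.2.1
    rw [hn]
    exact Nat.Coprime.pow_left n ((Nat.Prime.coprime_iff_not_dvd hpp).mpr (hHall.2.2 p hpp hσ))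
  have hSylN : IsSylowOf p S (sigmaCore L) := hS.of_le hSN hHall.1
  have hNS : sigmaCore L ≤ normalizer (S : Set G) := by
    apply bg12_hall_le_normalizer hnil hSN
    obtain ⟨n, hn⟩ := IsPGroup.iff_card.mp hS.2.1
    rw [hn]
    exact Nat.Coprime.pow_left n
      ((Nat.Prime.coprime_iff_not_dvd hpp).mpr (not_dvd_relIndex_of_isSylowOf hSylN))
  have hLS : L ≤ normalizer (S : Set G) := by
    intro l hl
    apply bg10_mem_normalizer
    intro x hx
    have h1 : IsSylowOf p (MulAut.conj l⁻¹ • S) L := bg10_isSylowOf_conj hS (L.inv_mem hl)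
    have h2 : MulAut.conj l⁻¹ • S ≤ sigmaCore L := by
      intro y hy
      rw [mem_conj_smul] at hy
      have h3 := hSN hy
      have h4 := (Subgroup.mem_normalizer_iff.mp (hNL (L.inv_mem hl)) _).mp h3
      have e : l⁻¹ * ((l⁻¹)⁻¹ * y * l⁻¹) * (l⁻¹)⁻¹ = y := by group
      rwa [e] at h4
    have h5 := bg10_le_sylow_of_normal (h1.of_le h2 hHall.1) hS.2.1 hSN hNS
    have h6 := h5 hx
    rw [mem_conj_smul] at h6
    simpa using h6
  exact uq_normalizer_eq hG hL hS1 hS.1 hLS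

namespace R2Data

variable {p : ℕ} {S P₁ P₂ : Subgroup G}

/-- **B&G 12.12, rank two**: a nonabelian Sylow `p`-subgroup of rank two lies in at most one
maximal subgroup `M` with `p ∈ σ(M)`. -/
theorem uniq [Fact p.Prime] (d : R2Data p S P₁ P₂) (hG : IsMinSimpleOddOrder G) (hU : BGUniq G)
    (hpl : BGPLen G) (h16 : H16 G) (hS : IsSylowOf p S ⊤) {M M' : Subgroup G}
    (hM : IsCoatom M) (hM' : IsCoatom M') (hSM : S ≤ M) (hSM' : S ≤ M') (hσ : p ∈ sigma M)
    (hσ' : p ∈ sigma M') : M = M' := by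
  have hpp : p.Prime := Fact.out
  set Z : Subgroup G := P₁ ⊓ centralizer (P₁ : Set G) with hZ
  have hSylM : IsSylowOf p S M := hS.of_le hSM le_top
  have hSylM' : IsSylowOf p S M' := hS.of_le hSM' le_top
  have hNM := sigma_sylow_norm_le hσ hSylM
  have hNM' := sigma_sylow_norm_le hσ' hSylM'
  obtain ⟨a, ha, haZ⟩ := d.exists_not_mem
  obtain ⟨hac, hane, hAel, hAcard, hAP⟩ := d.elemAb ha haZ
  have hAS : zpowers a ⊔ Z ≤ S := hAP.trans d.le₁
  have hS1 : S ≠ ⊥ := by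
    intro h
    apply haZ
    have h1 : a ∈ S := d.le₁ ha
    rw [h, Subgroup.mem_bot] at h1
    rw [h1]; exact one_mem _
  have key : ∀ L : Subgroup G, IsCoatom L → S ≤ L → p ∈ sigma L →
      normalizer (S : Set G) = L ∨
      (normalizer (Z : Set G) ≤ L ∧
        ∀ L' : Subgroup G, IsCoatom L' → normalizer (Z : Set G) ≤ L' → L' = L) ∨
      (normalizer ((zpowers a : Subgroup G) : Set G) ≤ L ∧
        ∀ L' : Subgroup G, IsCoatom L' → normalizer ((zpowers a : Subgroup G) : Set G) ≤ L' →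
          S ≤ L' → L' = L) := by
    intro L hL hSL hσL
    have h := h16 L hL p _ ⟨hAS.trans hSL, hAel, hAcard⟩
    by_cases hw : ∃ A₀ : Subgroup G, A₀ ≤ zpowers a ⊔ Z ∧ Nat.card A₀ = p ∧
        (normalizer (A₀ : Set G) ≤ L ∧
          ∀ L' : Subgroup G, IsCoatom L' → normalizer (A₀ : Set G) ≤ L' → L' = L)
    · obtain ⟨A₀, hA₀A, hA₀c, hN, huniq⟩ := hw
      by_cases hA₀Z : A₀ = Z
      · subst hA₀Z
        exact Or.inr (Or.inl ⟨hN, huniq⟩)
      · obtain ⟨y, hy, e⟩ := d.conj_line ha haZ hA₀A hA₀c hA₀Z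
        right; right
        have hyL : y ∈ L := hSL (d.le₁ hy)
        constructor
        · have h1 := normalizer_conj_le (L.inv_mem hyL) hN
          rw [e, conj_smul_conj_smul, inv_mul_cancel, map_one, one_smul] at h1
          exact h1
        · intro L' hL' hNL' hSL'
          apply huniq L' hL'
          rw [e]
          exact normalizer_conj_le (hSL' (d.le₁ hy)) hNL'
    · left
      have hnil := (h.2 (fun A₀ hA₀ hc hcon => hw ⟨A₀, hA₀, hc, hcon⟩)).2.2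
      exact normalizer_sylow_eq_of_nilpotent hG hU hL hσL (hS.of_le hSL le_top) hS1 hnil
  rcases key M hM hSM hσ with h1 | h1 | h1
  · -- `M = N_G(S) ≤ M'`
    exact (uq_eq_of_coatom_le hM hM'.1 (h1 ▸ hNM')).symm
  · rcases key M' hM' hSM' hσ' with h2 | h2 | h2
    · exact uq_eq_of_coatom_le hM' hM.1 (h2 ▸ hNM)
    · exact (h1.2 M' hM' h2.1).symm
    · -- mixed: `M ≤ M'`
      have hle : M ≤ M' := le_of_inv_le hpl hM hSylM hNM'
        (fun D hSD hcop => d.inv_le h16 ha haZ hM' hSM' h2.1 hSD hcop)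
      exact (uq_eq_of_coatom_le hM hM'.1 hle).symm
  · rcases key M' hM' hSM' hσ' with h2 | h2 | h2
    · exact uq_eq_of_coatom_le hM' hM.1 (h2 ▸ hNM)
    · -- mixed: `M' ≤ M`
      have hle : M' ≤ M := le_of_inv_le hpl hM' hSylM' hNM
        (fun D hSD hcop => d.inv_le h16 ha haZ hM hSM h1.1 hSD hcop)
      exact uq_eq_of_coatom_le hM' hM.1 hle
    · exact (h1.2 M' hM' h2.1 hSM').symm

end R2Data

/-! ### Lemma 12.12 -/

/-- **Bender–Glauberman, Lemma 12.12**: a nonabelian `p`-subgroup of a minimal simple group of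
odd order lies in exactly one maximal subgroup (conditional on S1403, S1410, S1416, S1417). -/
theorem bg12_12 (hG : IsMinSimpleOddOrder G) (hU : BGUniq G) (hpl : BGPLen G) (h16 : H16 G)
    (h17 : H17 G) (p : ℕ) [Fact p.Prime] (P : Subgroup G) (hP : IsPGroup p P)
    (hPna : ¬ IsMulCommutative P) : InUniqueMaximal P := by
  have hpp : p.Prime := Fact.out
  have hsimple := hG.2.1
  -- `P ≠ ⊤`
  have hPtop : P ≠ ⊤ := by
    intro h
    have hnc : ¬ IsMulCommutative G := hG.2.2.1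
    apply hnc
    have h1 : IsPGroup p G := by
      intro g
      obtain ⟨k, hk⟩ := hP ⟨g, h ▸ Subgroup.mem_top g⟩
      exact ⟨k, congrArg Subtype.val hk⟩
    have := h1.isNilpotent
    have hsolv : Group.IsSolvable G := inferInstance
    exact ⟨⟨IsSimpleGroup.comm_iff_isSolvable.mpr hsolv⟩⟩
  obtain ⟨M, hM, hPM⟩ := uq_exists_coatom_ge hPtop
  refine ⟨M, ⟨hM, hPM⟩, ?_⟩
  rintro M' ⟨hM', hPM'⟩
  -- a Sylow `p`-subgroup `S ≥ P` of `G`
  obtain ⟨S, hS, hPS⟩ := exists_isSylowOf_ge hP (le_top : P ≤ ⊤)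
  have hSM := le_of_nonabelian_le hG hU h16 h17 hM hS.2.1 hPS hPna hPM
  have hSM' := le_of_nonabelian_le hG hU h16 h17 hM' hS.2.1 hPS hPna hPM'
  have hσ := sigma_of_nonabelian hG hU h17 hM hP hPna hPM
  have hσ' := sigma_of_nonabelian hG hU h17 hM' hP hPna hPM'
  by_cases hr : PRankLE p 2 ↥S
  · obtain ⟨S₀, hS₀⟩ := hS.exists_sylow_top
    have h12 := Cfsg.Agent.S1412.result hG p S₀ (hS₀ ▸ hr)
    rw [hS₀] at h12
    rcases h12 with hab | ⟨P₁, P₂, h1, h2, h3, h4, h5, h6, h7⟩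
    · exfalso
      apply hPna
      exact ⟨⟨fun x y => Subtype.ext (by
        simpa using congrArg Subtype.val (hab.is_comm.comm ⟨x.1, hPS x.2⟩ ⟨y.1, hPS y.2⟩))⟩⟩
    · have d : R2Data p S P₁ P₂ := ⟨h1, h2, h3, h4, h5, h6, h7⟩
      exact (d.uniq hG hU hpl h16 hS hM hM' hSM hSM' hσ hσ').symm
  · exact bg10_uniq_of_rank3 hU hpp hM hSM hr M' hM' hSM'

end Cfsg.Agent.Helper62.BG12
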