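/-
helper62: Bender–Glauberman, Section 12, Lemma 12.13 (= S1423).  Pieces Q1, Q2 (helper73), Q3, Q5
(helper31), Q4 (helper50) of CALL S1423 are imported.
-/
import Cfsg.Agent.Helper62.BG12c
import Cfsg.Agent.Helper23.Uniq3
import Cfsg.Agent.Helper22.BG12b
import Cfsg.Agent.S1403
import Cfsg.Agent.S1412
import Cfsg.Agent.S1414
import Cfsg.Agent.S1422
import Cfsg.Agent.Helper50.BG1213Q4
import Cfsg.Agent.Helper31.BG1213Q
import Cfsg.Agent.Helper73.BG1423Q2
import Cfsg.Agent.Helper73.BG1423Q1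

set_option autoImplicit false

namespace Cfsg.Agent.Helper62.BG12

open Cfsg Subgroup Cfsg.Agent.Helper22 Cfsg.Agent.Helper23 Cfsg.Agent.Helper35
open scoped Pointwise

universe u

variable {G : Type u} [Group G] [Finite G]

/-! ### Lemma 12.13 -/

/-- If a subgroup `R ≤ M` of `C_G(X)` lies in no other maximal subgroup, then `C_G(X) ≤ M` and
`M` is the only maximal subgroup over `C_G(X)`. -/
theorem cent_uniq_of_le (hG : IsMinSimpleOddOrder G) {M R X : Subgroup G} (hM : IsCoatom M)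
    (hX1 : X ≠ ⊥) (hXM : X ≤ M) (hRX : R ≤ centralizer (X : Set G))
    (hu : ∀ L : Subgroup G, IsCoatom L → R ≤ L → L = M) :
    centralizer (X : Set G) ≤ M ∧
      ∀ L : Subgroup G, IsCoatom L → centralizer (X : Set G) ≤ L → L = M := by
  have hsimple := hG.2.1
  have hXtop : X ≠ ⊤ := by
    rintro rfl
    exact hM.1 (top_le_iff.mp hXM)
  have hCtop : centralizer (X : Set G) ≠ ⊤ := by
    intro h
    apply normalizer_ne_top_of_simple hX1 hXtop
    rw [eq_top_iff, ← h]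
    exact Subgroup.centralizer_le_normalizer _
  have key : ∀ L : Subgroup G, IsCoatom L → centralizer (X : Set G) ≤ L → L = M :=
    fun L hL hCL => hu L hL (hRX.trans hCL)
  obtain ⟨L, hL, hCL⟩ := uq_exists_coatom_ge hCtop
  have := key L hL hCL
  subst this
  exact ⟨hCL, key⟩

/-- A subgroup of order `p` inside a `p`-group `T` which is central in `T`. -/
theorem exists_central_card_prime {p : ℕ} [Fact p.Prime] {T : Subgroup G} (hT : IsPGroup p T)
    (hT1 : T ≠ ⊥) :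
    ∃ Z : Subgroup G, Z ≤ T ∧ Nat.card Z = p ∧ T ≤ centralizer (Z : Set G) := by
  have hpp : p.Prime := Fact.out
  have h1 := centerOf_ne_bot hT hT1
  have h2 : IsPGroup p ↥(centerOf T) := hT.to_le inf_le_left
  have h3 := dvd_card_of_isPGroup_ne_bot h2 h1
  obtain ⟨z, hz⟩ := exists_prime_orderOf_dvd_card' p h3
  refine ⟨zpowers (z : G), ?_, ?_, ?_⟩
  · rw [zpowers_le]; exact z.2.1
  · rw [Nat.card_zpowers, Subgroup.orderOf_coe, hz]
  · intro t ht
    rw [mem_centralizer_iff]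
    intro y hy
    have hy' : y ∈ centralizer (T : Set G) := by
      have : zpowers (z : G) ≤ centralizer (T : Set G) := by
        rw [zpowers_le]; exact z.2.2
      exact this hy
    exact (mem_centralizer_iff.mp hy' t ht).symm

/-- **Bender–Glauberman, Lemma 12.13**. -/
theorem bg12_13 (hG : IsMinSimpleOddOrder G) (M : Subgroup G) (hM : IsCoatom M) (p : ℕ)
    [Fact p.Prime] (hp : p ∈ sigma M) (X : Subgroup G) (hXM : X ≤ M) (hX : Nat.card X = p)
    (P : Sylow p ↥(sigmaCore M)) (h : p ∈ beta M ∨ X ≤ ⁅sigmaCore M, sigmaCore M⁆) :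
    (centralizer (X : Set G) ≤ M ∧
        ∀ L : Subgroup G, IsCoatom L → centralizer (X : Set G) ≤ L → L = M) ∧
      InUniqueMaximal ((P : Subgroup ↥(sigmaCore M)).map (sigmaCore M).subtype) ∧
      (P : Subgroup ↥(sigmaCore M)).map (sigmaCore M).subtype ≤ M := by
  have hpp : p.Prime := Fact.out
  have hU : BGUniq G := fun K hK h1 h2 => Cfsg.Agent.S1403.result hG K hK h1 h2
  have h22 : ∀ (Q : Subgroup G), IsPGroup p Q → ¬ IsMulCommutative Q → InUniqueMaximal Q :=
    fun Q hQ hQna => Cfsg.Agent.S1422.result hG p Q hQ hQna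
  have hKM : sigmaCore M ≤ M := piCoreOf_le _ _
  have hXp : IsPGroup p X := IsPGroup.of_card (n := 1) (by rw [hX, pow_one])
  have hX1 : X ≠ ⊥ := by
    rintro rfl
    rw [Subgroup.card_bot] at hX
    exact hpp.one_lt.ne hX
  have hp2 : p ≠ 2 := odd_prime_ne_two hG hpp (X := X) (by rw [hX])
  have hXK : X ≤ sigmaCore M := bg12_le_sigmaCore hG hU hM hpp hp hXM hXp
  -- Sylow subgroups of `M_σ` are Sylow subgroups of `M` and of `G`
  have hsyl : ∀ T : Subgroup G, IsSylowOf p T (sigmaCore M) →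
      IsSylowOf p T M ∧ IsSylowOf p T ⊤ := by
    intro T hT
    have h1 : IsSylowOf p T M := by
      refine ⟨hT.1.trans hKM, hT.2.1, fun Q hQM hQ hle => ?_⟩
      exact hT.2.2 Q (bg12_le_sigmaCore hG hU hM hpp hp hQM hQ) hQ hle
    refine ⟨h1, h1.of_normalizer_inf_le le_top ?_⟩
    exact inf_le_left.trans (sigma_sylow_norm_le hp h1)
  set S : Subgroup G := (P : Subgroup ↥(sigmaCore M)).map (sigmaCore M).subtype with hSdef
  have hS : IsSylowOf p S (sigmaCore M) := isSylowOf_map P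
  have hSM : S ≤ M := hS.1.trans hKM
  obtain ⟨T, hT, hXT⟩ := exists_isSylowOf_ge hXp hXK
  have hTM : T ≤ M := hT.1.trans hKM
  obtain ⟨hTsM, hTsG⟩ := hsyl T hT
  -- uniqueness from rank at least three
  have huniq3 : ∀ R : Subgroup G, R ≤ M → ¬ PRankLE p 2 ↥R →
      ∀ L : Subgroup G, IsCoatom L → R ≤ L → L = M :=
    fun R hRM hr => bg10_uniq_of_rank3 hU hpp hM hRM hr
  have hInU : ∀ R : Subgroup G, R ≤ M → (∀ L : Subgroup G, IsCoatom L → R ≤ L → L = M) →
      InUniqueMaximal R := fun R hRM hu => ⟨M, ⟨hM, hRM⟩, fun L hL => hu L hL.1 hL.2⟩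
  by_cases hβ : p ∈ beta M
  · -- the case `p ∈ β(M)`
    obtain ⟨⟨-, hrM⟩, -, -, hideal⟩ := hβ
    have hrS : ¬ PRankLE p 2 ↥S := fun hr => hrM (pRankLE_of_isSylowOf (hsyl S hS).1 hr)
    have hrT : ¬ PRankLE p 2 ↥T := fun hr => hrM (pRankLE_of_isSylowOf hTsM hr)
    refine ⟨?_, hInU S hSM (huniq3 S hSM hrS), hSM⟩
    have hT1 : T ≠ ⊥ := fun h => hX1 (le_bot_iff.mp (h ▸ hXT))
    obtain ⟨Z, hZT, hZc, hTZ⟩ := exists_central_card_prime hT.2.1 hT1
    by_cases hXZ : X = Z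
    · exact cent_uniq_of_le hG hM hX1 hXM (hXZ ▸ hTZ) (huniq3 T hTM hrT)
    · have hcomm : ∀ y ∈ X, ∀ z ∈ Z, y * z = z * y := fun y hy z hz =>
        (mem_centralizer_iff.mp (hTZ (hXT hy)) z hz).symm
      obtain ⟨hA, hAc⟩ := bg10_sup_elemAb hpp hX hZc hXZ hcomm
      obtain ⟨T₀, hT₀⟩ := hTsG.exists_sylow_top
      obtain ⟨B, hBT, hB, hAB⟩ := hideal T₀ (X ⊔ Z) (hT₀ ▸ sup_le hXT hZT) hA hAc
      rw [hT₀] at hBT
      have hBX : B ≤ centralizer (X : Set G) := by
        intro b hb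
        rw [mem_centralizer_iff]
        intro x hx
        have hxB : x ∈ B := hAB.le (le_sup_left (a := X) (b := Z) hx)
        exact congrArg Subtype.val (hB.1.is_comm.comm ⟨x, hxB⟩ ⟨b, hb⟩)
      have hrB : ¬ PRankLE p 2 ↥B := by
        intro hr
        have h1 := pRank_internal hr B le_rfl
          (fun x hx y hy => congrArg Subtype.val (hB.1.is_comm.comm ⟨x, hx⟩ ⟨y, hy⟩)) hB.2
        have h2 : X ⊔ Z = B := Subgroup.eq_of_le_of_card_ge hAB.le (by rw [hAc]; exact h1)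
        exact hAB.ne h2
      exact cent_uniq_of_le hG hM hX1 hXM hBX (huniq3 B (hBT.trans hTM) hrB)
  · -- the case `X ≤ (M_σ)'`
    have hXc : X ≤ ⁅sigmaCore M, sigmaCore M⁆ := h.resolve_left hβ
    have h14 : HasNormalPComplement p ↥(sigmaCore M) :=
      ((Cfsg.Agent.S1414.result hG M hM).2.2.2.2 p hpp hp.2.1 hβ).2.1
    have hXT' : X ≤ ⁅T, T⁆ := (le_inf hXT hXc).trans (Cfsg.Agent.Helper73.q1_comm_sylow_of_npc h14 hT)
    have hTna : ¬ IsMulCommutative ↥T := by
      intro hc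
      apply hX1
      rw [eq_bot_iff]
      refine hXT'.trans ?_
      rw [Subgroup.commutator_le]
      intro a ha b hb
      rw [Subgroup.mem_bot, commutatorElement_eq_one_iff_mul_comm]
      exact congrArg Subtype.val (hc.is_comm.comm ⟨a, ha⟩ ⟨b, hb⟩)
    have hSna : ¬ IsMulCommutative ↥S := by
      intro hc
      obtain ⟨k, -, e⟩ := bg10_sylow_conj hS hT
      exact hTna (e ▸ isMulCommutative_conj_smul k hc)
    refine ⟨?_, h22 S hS.2.1 hSna, hSM⟩
    by_cases hr : PRankLE p 2 ↥T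
    · obtain ⟨T₀, hT₀⟩ := hTsG.exists_sylow_top
      have h12 := Cfsg.Agent.S1412.result hG p T₀ (hT₀ ▸ hr)
      rw [hT₀] at h12
      rcases h12 with hab | ⟨P₁, P₂, h1, h2, h3, h4, h5, h6, h7⟩
      · exact absurd hab hTna
      · have d : R2Data p T P₁ P₂ := ⟨h1, h2, h3, h4, h5, h6, h7⟩
        have hXZ : X ≤ P₁ ⊓ centralizer (P₁ : Set G) := hXT'.trans (Cfsg.Agent.Helper50.q4_comm_le d)
        have hTX : T ≤ centralizer (X : Set G) :=
          d.Z_central.trans (Subgroup.centralizer_le hXZ)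
        obtain ⟨L₀, hL₀, hL₀u⟩ := h22 T hT.2.1 hTna
        have hML₀ : M = L₀ := hL₀u M ⟨hM, hTM⟩
        exact cent_uniq_of_le hG hM hX1 hXM hTX
          (fun L hL hTL => (hL₀u L ⟨hL, hTL⟩).trans hML₀.symm)
    · obtain ⟨W, hWT, hWc, hWe, hWcard, hTW, hidx⟩ :=
        exists_normal_elemAb_sq_in hp2 hT.2.1 (not_isCyclic_of_not_comm hTna)
      have hXW : X ≤ centralizer (W : Set G) :=
        hXT'.trans (Cfsg.Agent.Helper73.q2_comm_le_centralizer hT.2.1 hTW (hidx T le_rfl))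
      by_cases hXleW : X ≤ W
      · have hr3 := Cfsg.Agent.Helper31.q3_not_pRankLE_inf_centralizer hT.2.1 hWT hWc hWe hidx hr
        exact cent_uniq_of_le hG hM hX1 hXM
          (inf_le_right.trans (Subgroup.centralizer_le hXleW))
          (huniq3 _ (inf_le_left.trans hTM) hr3)
      · obtain ⟨hr3, hle⟩ := Cfsg.Agent.Helper31.q5_not_pRankLE_sup hX hWc hWe hWcard hXW hXleW
        exact cent_uniq_of_le hG hM hX1 hXM hle
          (huniq3 _ ((sup_le hXT hWT).trans hTM) hr3)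

end Cfsg.Agent.Helper62.BG12
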