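/-
helper62: piece B8 of CALL S1378 (architect helper1): `β(M) ≠ ∅` in the configuration of
B&G Theorem 13.9 (otherwise `M_σ` is nilpotent and `M ≤ N_G(S) ≤ Ms`).
-/
import Cfsg.Agent.Helper1.BG139Defs
import Cfsg.Agent.Helper62.BG12d
import Cfsg.Agent.S1414

set_option autoImplicit false

namespace Cfsg.Agent.Helper62

open Cfsg Subgroup Cfsg.Agent.Helper1 Cfsg.Agent.Helper22 Cfsg.Agent.Helper23 Cfsg.Agent.Helper35

universe u

variable {G : Type u} [Group G] [Finite G]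

/-- PIECE `B8`. -/
theorem bg139_exists_beta (hG : IsMinSimpleOddOrder G) {M Ms S : Subgroup G} {s : ℕ}
    (c : BG139Cfg M Ms S s) : ∃ t : ℕ, t ∈ beta M := by
  by_contra hcon
  push Not at hcon
  have hU : BGUniq G := fun K hK h1 h2 => Cfsg.Agent.S1403.result hG K hK h1 h2
  have hM := c.hM
  have hs := c.hs
  haveI : Fact s.Prime := ⟨hs⟩
  have hKM : sigmaCore M ≤ M := piCoreOf_le _ _
  have hSM : S ≤ M := (le_normalizer.trans c.hN).trans inf_le_left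
  obtain ⟨-, -, -, ⟨H0, hH0, hH0nil⟩, -⟩ := Cfsg.Agent.S1414.result hG M hM
  have hidx : H0.relIndex (sigmaCore M) = 1 := by
    by_contra hne
    obtain ⟨ℓ, hℓ, hℓd⟩ := Nat.exists_prime_and_dvd hne
    exact hH0.2.2 ℓ hℓ ⟨hℓ, hcon ℓ⟩ hℓd
  have hle : sigmaCore M ≤ H0 := Subgroup.relIndex_eq_one.mp hidx
  have heq : H0 = sigmaCore M := le_antisymm hH0.1 hle
  have hnil : Group.IsNilpotent ↥(sigmaCore M) := heq ▸ hH0nil
  obtain ⟨Q0, hQ0⟩ := sylowSet_nonempty (p := s) (sigmaCore M)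
  have hMQ0 : M ≤ normalizer (Q0 : Set G) := bg11_sylow_normal hnil hQ0
  have hQ0s : IsPGroup s Q0 := isPGroup_of_mem_sylowSet hQ0
  have hQ0top : IsSylowOf s Q0 ⊤ := (bg11_sigma_sylow hG hU hM c.hsM hQ0).1
  have hpg : IsPGroup s (Q0 ⊔ S : Subgroup G) :=
    IsPGroup.to_sup_of_normal_left' hQ0s c.hSp (hSM.trans hMQ0)
  have h1 : Q0 ⊔ S = Q0 := hQ0top.2.2 _ le_top hpg le_sup_left
  have hSQ0 : S ≤ Q0 := h1 ▸ le_sup_right
  have h2 : Q0 = S := c.hSmax Q0 hQ0s hSQ0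
  have h3 : M ≤ Ms := ((h2 ▸ hMQ0).trans c.hN).trans inf_le_right
  have h4 : Ms = M := uq_eq_of_coatom_le hM c.hMs.1 h3
  apply c.hnc 1
  rw [h4]
  ext x
  simp
end Cfsg.Agent.Helper62
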