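/-
helper62: piece SW5 of CALL S1428 (architect helper2): `C_{M_β}(R) ≠ 1`
(step (S4) of insight 3428: Frobenius fact on a `QR`-invariant Sylow subgroup of `M_β`).
-/
import Cfsg.Agent.Helper2.BG13Defs
import Cfsg.Agent.Helper62.BG12d
import Cfsg.Agent.Helper55.BGFpf
import Cfsg.Agent.S1404
import Cfsg.Agent.S1409
import Cfsg.Agent.S1414
import Cfsg.Agent.S1423

set_option autoImplicit false

namespace Cfsg.Agent.Helper62

open Cfsg Subgroup Cfsg.Agent.Helper2 Cfsg.Agent.Helper22 Cfsg.Agent.Helper23 Cfsg.Agent.Helper35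

universe u

variable {G : Type u} [Group G] [Finite G]

/-- If `x` normalizes `Q` and has no nontrivial fixed point on `Q`, every element of `Q` is a
commutator `y x y⁻¹ x⁻¹` with `y ∈ Q`. -/
theorem sw5_exists_comm {Q : Subgroup G} {x : G} (hxQ : x ∈ normalizer (Q : Set G))
    (hC : ∀ y ∈ Q, y * x = x * y → y = 1) (z : G) (hz : z ∈ Q) :
    ∃ y ∈ Q, y * x * y⁻¹ * x⁻¹ = z := by
  have hmem : ∀ y ∈ Q, y * x * y⁻¹ * x⁻¹ ∈ Q := by
    intro y hy
    have h1 : x * y⁻¹ * x⁻¹ ∈ Q := (mem_normalizer_iff.mp hxQ y⁻¹).mp (Q.inv_mem hy)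
    have h2 : y * x * y⁻¹ * x⁻¹ = y * (x * y⁻¹ * x⁻¹) := by group
    rw [h2]
    exact Q.mul_mem hy h1
  let f : Q → Q := fun y => ⟨(y : G) * x * (y : G)⁻¹ * x⁻¹, hmem y y.2⟩
  have hinj : Function.Injective f := by
    intro a b hab
    have h : (a : G) * x * (a : G)⁻¹ * x⁻¹ = (b : G) * x * (b : G)⁻¹ * x⁻¹ :=
      congrArg Subtype.val hab
    have h3 : (a : G) * x * (a : G)⁻¹ = (b : G) * x * (b : G)⁻¹ := mul_right_cancel h
    have h2 : ((b : G)⁻¹ * a) * x = x * ((b : G)⁻¹ * a) := by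
      calc ((b : G)⁻¹ * a) * x = (b : G)⁻¹ * ((a : G) * x * (a : G)⁻¹) * a := by group
        _ = (b : G)⁻¹ * ((b : G) * x * (b : G)⁻¹) * a := by rw [h3]
        _ = x * ((b : G)⁻¹ * a) := by group
    have h4 := hC _ (Q.mul_mem (Q.inv_mem b.2) a.2) h2
    exact Subtype.ext (inv_mul_eq_one.mp h4).symm
  have hsurj := Finite.surjective_of_injective hinj
  obtain ⟨y, hy⟩ := hsurj ⟨z, hz⟩
  exact ⟨y, y.2, congrArg Subtype.val hy⟩

/-- PIECE SW5 of CALL S1428: `C_{M_β}(R) ≠ 1`. -/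
theorem bg13_sw_cent (hG : IsMinSimpleOddOrder G) {M E P R H Q S : Subgroup G} {p r q : ℕ}
    (c : T1Ctx M E P R H Q p r q)
    (hu : normalizer (Q : Set G) ≤ H ∧
      ∀ L : Subgroup G, IsCoatom L → normalizer (Q : Set G) ≤ L → L = H)
    (hqH : q ∈ sigma H) (hSM : S ≤ sigmaCore M) (hSsyl : IsSylowOf q S ⊤)
    (hNS : normalizer (S : Set G) ≤ H) (hB : piCoreOf (beta M) M ⊓ H = ⊥) :
    piCoreOf (beta M) M ⊓ centralizer (R : Set G) ≠ ⊥ := by
  intro hCR
  have hU : BGUniq G := fun K hK h1 h2 => Cfsg.Agent.S1403.result hG K hK h1 h2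
  have hM := c.hM
  have hpp : p.Prime := c.hp.1
  have hq : q.Prime := c.hq
  have hr : r.Prime := c.hr
  haveI : Fact p.Prime := ⟨hpp⟩
  haveI : Fact q.Prime := ⟨hq⟩
  haveI : Fact r.Prime := ⟨hr⟩
  have hKM : sigmaCore M ≤ M := piCoreOf_le _ _
  have hRM : R ≤ M := c.hRE.trans c.hE.1
  have hQM : Q ≤ M := c.hQM.trans hKM
  -- `M ≠ H`
  have hHM : M ≠ H := by
    intro e
    have hNP : normalizer (P : Set G) ≤ M := by rw [e]; exact c.hNP
    have h9 := (Cfsg.Agent.S1409.result hG M hM p c.hp.2.1 P c.hP hNP).1.2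
    exact h9 c.hp.2.2.2.2
  -- `q ∈ σ(M)`
  have hqd : q ∣ Nat.card (sigmaCore M) :=
    (dvd_card_of_isPGroup_ne_bot c.hQq c.hQ1).trans (Subgroup.card_dvd_of_le c.hQM)
  have hqσ : q ∈ sigma M := (bg10_sigma_hall hG hU hM).1.2.1 q hq hqd
  -- `q ∉ β(M)`
  have hqβ : q ∉ beta M := by
    intro hqβ
    obtain ⟨X0, hX0Q, hX0c, -⟩ := BG12.exists_central_card_prime c.hQq c.hQ1
    obtain ⟨P0⟩ : Nonempty (Sylow q ↥(sigmaCore M)) := inferInstance
    have h23 := (Cfsg.Agent.S1423.result hG M hM q hqσ X0 (hX0Q.trans hQM) hX0c P0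
      (Or.inl hqβ)).1.1
    have h04 := (Cfsg.Agent.S1404.result hG M hM q hqσ Q c.hQq c.hQ1 hQM).2
    have hCQ : centralizer (Q : Set G) ≤ M :=
      (Subgroup.centralizer_le (show (X0 : Set G) ⊆ Q from hX0Q)).trans h23
    have hNQ : normalizer (Q : Set G) ≤ M := by
      rw [h04]
      exact sup_le inf_le_left hCQ
    exact hHM (hu.2 M hM hNQ)
  -- `r ∉ σ(M)`
  have hRr : IsPGroup r R := IsPGroup.of_card (n := 1) (by rw [c.hR, pow_one])
  have hR1 : R ≠ ⊥ := by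
    intro e
    have h1 := c.hR
    rw [e, Subgroup.card_bot] at h1
    exact hr.one_lt.ne h1
  have hrσ : r ∉ sigma M := by
    intro hrσ
    have h1 : R ≤ sigmaCore M := bg12_le_sigmaCore hG hU hM hr hrσ hRM hRr
    have h2 : R ≤ E ⊓ sigmaCore M := le_inf c.hRE h1
    rw [c.hE.2.2.1] at h2
    exact hR1 (le_bot_iff.mp h2)
  have hβσ : beta M ⊆ sigma M := fun ℓ hℓ => bg10_alpha_sub_sigma hG hU hM hℓ.1
  have hrβ : r ∉ beta M := fun h => hrσ (hβσ h)
  have hqr : q ≠ r := fun e => hrσ (e ▸ hqσ)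
  -- the Hall subgroup `M_β`
  obtain ⟨hβhall, -, -, ⟨H0, hH0, hH0nil⟩, -⟩ := Cfsg.Agent.S1414.result hG M hM
  have hMβM : piCoreOf (beta M) M ≤ M := piCoreOf_le _ _
  have hMβn : M ≤ normalizer ((piCoreOf (beta M) M : Subgroup G) : Set G) :=
    le_normalizer_piCoreOf _ _
  -- `M_β ≠ 1`
  have hMβ1 : piCoreOf (beta M) M ≠ ⊥ := by
    intro h0
    have hnoβ : ∀ ℓ : ℕ, ℓ.Prime → ℓ ∈ beta M → ¬ ℓ ∣ Nat.card M := by
      intro ℓ hℓ hℓβ hd
      have h1 := hβhall.2.2 ℓ hℓ hℓβ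
      rw [h0, Subgroup.relIndex_bot_left] at h1
      exact h1 hd
    have hidx : H0.relIndex (sigmaCore M) = 1 := by
      by_contra hne
      obtain ⟨ℓ, hℓ, hℓd⟩ := Nat.exists_prime_and_dvd hne
      have hℓM : ℓ ∣ Nat.card M :=
        (hℓd.trans (Subgroup.relIndex_dvd_card _ _)).trans (Subgroup.card_dvd_of_le hKM)
      exact hH0.2.2 ℓ hℓ ⟨hℓ, fun hβ => hnoβ ℓ hℓ hβ hℓM⟩ hℓd
    have hle : sigmaCore M ≤ H0 := Subgroup.relIndex_eq_one.mp hidx
    have heq : H0 = sigmaCore M := le_antisymm hH0.1 hle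
    have hnil : Group.IsNilpotent ↥(sigmaCore M) := heq ▸ hH0nil
    obtain ⟨Q0, hQ0⟩ := sylowSet_nonempty (p := q) (sigmaCore M)
    have hMQ0 : M ≤ normalizer (Q0 : Set G) := bg11_sylow_normal hnil hQ0
    have hQ0top : IsSylowOf q Q0 ⊤ := (bg11_sigma_sylow hG hU hM hqσ hQ0).1
    have hQ0q : IsPGroup q Q0 := isPGroup_of_mem_sylowSet hQ0
    have hSq : IsPGroup q S := hSsyl.2.1
    have hSMM : S ≤ M := hSM.trans hKM
    have hpg : IsPGroup q (Q0 ⊔ S : Subgroup G) :=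
      IsPGroup.to_sup_of_normal_left' hQ0q hSq (hSMM.trans hMQ0)
    have h1 : Q0 ⊔ S = Q0 := hQ0top.2.2 _ le_top hpg le_sup_left
    have hSQ0 : S ≤ Q0 := h1 ▸ le_sup_right
    have h2 : Q0 = S := hSsyl.2.2 Q0 le_top hQ0q hSQ0
    have h3 : M ≤ H := (h2 ▸ hMQ0).trans hNS
    exact hHM (uq_eq_of_coatom_le hM c.hH.1 h3).symm
  -- a prime `t` of `M_β`
  obtain ⟨t, ht, htd⟩ := Nat.exists_prime_and_dvd
    (show Nat.card (piCoreOf (beta M) M) ≠ 1 from fun h => hMβ1 (Subgroup.card_eq_one.mp h))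
  haveI : Fact t.Prime := ⟨ht⟩
  have htβ : t ∈ beta M := hβhall.2.1 t ht htd
  -- the acting group `R ⊔ Q`
  have hAn : R ⊔ Q ≤ normalizer ((piCoreOf (beta M) M : Subgroup G) : Set G) :=
    (sup_le hRM hQM).trans hMβn
  have hqMβ : ¬ q ∣ Nat.card (piCoreOf (beta M) M) := fun h => hqβ (hβhall.2.1 q hq h)
  have hrMβ : ¬ r ∣ Nat.card (piCoreOf (beta M) M) := fun h => hrβ (hβhall.2.1 r hr h)
  obtain ⟨k, hk⟩ := IsPGroup.iff_card.mp c.hQq
  have hcop : (Nat.card ↥(R ⊔ Q)).Coprime (Nat.card (piCoreOf (beta M) M)) := by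
    have hdvd : Nat.card ↥(R ⊔ Q) ∣ Nat.card R * Nat.card Q :=
      Cfsg.Agent.Helper22.card_sup_dvd_of_le_normalizer c.hRQ
    refine Nat.Coprime.coprime_dvd_left hdvd (Nat.Coprime.mul_left ?_ ?_)
    · rw [c.hR]
      exact (Nat.Prime.coprime_iff_not_dvd hr).mpr hrMβ
    · rw [hk]
      exact Nat.Coprime.pow_left k ((Nat.Prime.coprime_iff_not_dvd hq).mpr hqMβ)
  have hMβtop : piCoreOf (beta M) M ≠ ⊤ := fun h => hM.1 (top_le_iff.mp (h ▸ hMβM))
  obtain ⟨V, hV, hAV⟩ := exists_invariant_sylow hAn hcop (Or.inr (uq_isSolvable hG hMβtop)) t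
  have hVMβ : V ≤ piCoreOf (beta M) M := hV.1
  have hV1 : V ≠ ⊥ := bg12_sylowSet_ne_bot ht hV htd
  have hVt : IsPGroup t V := isPGroup_of_mem_sylowSet hV
  have hVnil : Group.IsNilpotent ↥V := hVt.isNilpotent
  have hRV : R ≤ normalizer (V : Set G) := le_sup_left.trans hAV
  have hQV : Q ≤ normalizer (V : Set G) := le_sup_right.trans hAV
  have hrV : ¬ r ∣ Nat.card V := fun h => hrMβ (h.trans (Subgroup.card_dvd_of_le hVMβ))
  have hrQ : ¬ r ∣ Nat.card Q := by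
    rw [hk]
    intro h
    exact hqr ((Nat.prime_dvd_prime_iff_eq hr hq).mp (hr.dvd_of_dvd_pow h)).symm
  have hVQ : (Nat.card V).Coprime (Nat.card Q) := by
    obtain ⟨j, hj⟩ := IsPGroup.iff_card.mp hVt
    rw [hj, hk]
    have htq : t ≠ q := fun e => hqβ (e ▸ htβ)
    exact Nat.Coprime.pow _ _ ((Nat.coprime_primes ht hq).mpr htq)
  -- every element of `Q` centralizes `V`
  have hQcV : Q ≤ centralizer (V : Set G) := by
    obtain ⟨x, hxR, hx1⟩ : ∃ x ∈ R, x ≠ 1 := by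
      by_contra hne
      push Not at hne
      exact hR1 ((Subgroup.eq_bot_iff_forall R).mpr hne)
    have hxr : x ^ r = 1 := by
      have h1 : (⟨x, hxR⟩ : R) ^ Nat.card R = 1 := pow_card_eq_one'
      rw [c.hR] at h1
      exact congrArg Subtype.val h1
    have hzx : ∀ y ∈ R, y ∈ zpowers x := by
      have hle : zpowers x ≤ R := zpowers_le.mpr hxR
      have hcard : Nat.card R ≤ Nat.card (zpowers x) := by
        rw [Nat.card_zpowers, c.hR]
        have hd : orderOf x ∣ r := orderOf_dvd_of_pow_eq_one hxr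
        rcases (Nat.dvd_prime hr).mp hd with h | h
        · exact absurd (orderOf_eq_one_iff.mp h) hx1
        · exact h.ge
      have h2 := Subgroup.eq_of_le_of_card_ge hle hcard
      intro y hy
      rw [h2]
      exact hy
    have hfix : ∀ a ∈ V, x * a = a * x → a = 1 := by
      intro a ha hax
      have haC : a ∈ centralizer (R : Set G) := by
        rw [mem_centralizer_iff]
        intro y hy
        obtain ⟨n, rfl⟩ := mem_zpowers_iff.mp (hzx y hy)
        exact (Commute.zpow_left (show Commute x a from hax) n).eq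
      have h1 : a ∈ piCoreOf (beta M) M ⊓ centralizer (R : Set G) := ⟨hVMβ ha, haC⟩
      rw [hCR] at h1
      exact Subgroup.mem_bot.mp h1
    have hCQx : ∀ y ∈ Q, y * x = x * y → y = 1 := by
      intro y hy hyx
      have hyC : y ∈ centralizer (R : Set G) := by
        rw [mem_centralizer_iff]
        intro z hz
        obtain ⟨n, rfl⟩ := mem_zpowers_iff.mp (hzx z hz)
        exact (Commute.zpow_left (show Commute x y from hyx.symm) n).eq
      have h1 : y ∈ Q ⊓ centralizer (R : Set G) := ⟨hy, hyC⟩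
      rw [c.hCQ] at h1
      exact Subgroup.mem_bot.mp h1
    have key := Cfsg.Agent.Helper55.bg_fpf_comm_centralizes hG.1 hr V Q x hVnil hQV (hRV hxR)
      (c.hRQ hxR) hxr hrV hrQ hVQ hfix
    intro z hz
    obtain ⟨y, hy, rfl⟩ := sw5_exists_comm (c.hRQ hxR) hCQx z hz
    rw [mem_centralizer_iff]
    intro a ha
    have h1 := key y hy a ha
    have h2 : y * x * y⁻¹ * x⁻¹ = (x * y * x⁻¹ * y⁻¹)⁻¹ := by group
    rw [h2]
    exact (Commute.inv_right (show Commute a (x * y * x⁻¹ * y⁻¹) from h1.symm)).eq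
  -- so `V ≤ M_β ∩ C(Q) ≤ M_β ∩ H = 1`
  have hVH : V ≤ piCoreOf (beta M) M ⊓ H := by
    refine le_inf hVMβ ?_
    intro a ha
    apply hu.1
    apply Subgroup.centralizer_le_normalizer
    rw [mem_centralizer_iff]
    intro z hz
    have h1 := hQcV hz
    rw [mem_centralizer_iff] at h1
    exact (h1 a ha).symm
  rw [hB] at hVH
  exact hV1 (le_bot_iff.mp hVH)

end Cfsg.Agent.Helper62
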