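import Cfsg.Agent.Helper62.BG51Defs
import Cfsg.Agent.Helper98.BG14SET3
import Cfsg.Agent.Helper98.BG14HM
import Cfsg.Agent.Helper50.BG14T2
import Cfsg.Agent.Helper24.BG13A1
import Cfsg.Agent.Helper22.BG12a
import Cfsg.Agent.Helper22.BG10b
import Cfsg.Agent.Helper22.BG14Main
import Cfsg.Agent.Helper25.CN
import Cfsg.Agent.S1403
import Cfsg.Agent.S1415

/-!
# S1351, part (B0): the basic structure of a `τ₃`-nonregular datum (no use of Theorem (i))
-/

set_option autoImplicit false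

namespace Cfsg.Agent.Helper62

open Cfsg Subgroup

universe u

variable {G : Type u} [Group G] [Finite G]

/-- a subgroup containing all elements of prime power order of `A` contains `A`. -/
theorem bg51_le_of_prime_pow {A C : Subgroup G}
    (h : ∀ x ∈ A, ∀ (r k : ℕ), r.Prime → x ^ r ^ k = 1 → x ∈ C) : A ≤ C := by
  have key : ∀ n : ℕ, ∀ x ∈ A, orderOf x = n → x ∈ C := by
    intro n
    induction n using Nat.strong_induction_on with
    | _ n ih =>
      intro x hx hn
      by_cases hx1 : x = 1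
      · rw [hx1]; exact C.one_mem
      have hn1 : orderOf x ≠ 1 := fun e => hx1 (orderOf_eq_one_iff.mp e)
      obtain ⟨r, hr, hrd⟩ := Nat.exists_prime_and_dvd hn1
      obtain ⟨a, b, hab, ha, hb, ⟨k, hak⟩, hbcop⟩ :=
        Cfsg.Agent.Helper25.exists_primary_decomp r hr x (orderOf_pos x).ne'
      have haA : a ∈ A := (Subgroup.zpowers_le.mpr hx) ha
      have hbA : b ∈ A := (Subgroup.zpowers_le.mpr hx) hb
      have haC : a ∈ C := h a haA r k hr (by rw [← hak]; exact pow_orderOf_eq_one a)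
      have hbd : orderOf b ∣ orderOf x := by
        obtain ⟨t, rfl⟩ := Subgroup.mem_zpowers_iff.mp hb
        apply orderOf_dvd_of_pow_eq_one
        rw [← zpow_natCast, ← zpow_mul, mul_comm, zpow_mul, zpow_natCast, pow_orderOf_eq_one,
          one_zpow]
      have hblt : orderOf b < n := by
        rw [← hn]
        refine lt_of_le_of_ne (Nat.le_of_dvd (orderOf_pos x) hbd) ?_
        intro e
        rw [e] at hbcop
        have h1 : r ∣ Nat.gcd (orderOf x) r := Nat.dvd_gcd hrd dvd_rfl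
        rw [hbcop] at h1
        exact hr.one_lt.ne' (Nat.dvd_one.mp h1)
      have hbC := ih _ hblt b hbA rfl
      rw [hab]; exact C.mul_mem haC hbC
  exact fun x hx => key _ x hx rfl

omit [Finite G] in
/-- the normalizer of `P` normalizes the centralizer of `P`. -/
theorem bg51_normalizer_centralizer {P : Subgroup G} {e : G} (he : e ∈ normalizer (P : Set G)) :
    e ∈ normalizer ((centralizer (P : Set G) : Subgroup G) : Set G) := by
  have key : ∀ f : G, f ∈ normalizer (P : Set G) → ∀ x ∈ centralizer (P : Set G),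
      f * x * f⁻¹ ∈ centralizer (P : Set G) := by
    intro f hf x hx
    rw [Subgroup.mem_centralizer_iff] at hx ⊢
    intro y hy
    have hy' : f⁻¹ * y * f ∈ P := by
      have := (Subgroup.mem_normalizer_iff.mp (Subgroup.inv_mem _ hf) y).mp hy
      simpa using this
    have h1 := hx _ hy'
    calc y * (f * x * f⁻¹) = f * ((f⁻¹ * y * f) * x) * f⁻¹ := by group
      _ = f * (x * (f⁻¹ * y * f)) * f⁻¹ := by rw [h1]
      _ = f * x * f⁻¹ * y := by group
  rw [Subgroup.mem_normalizer_iff]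
  intro x
  refine ⟨key e he x, fun hx => ?_⟩
  have := key e⁻¹ (Subgroup.inv_mem _ he) _ hx
  have e1 : e⁻¹ * (e * x * e⁻¹) * e⁻¹⁻¹ = x := by group
  rwa [e1] at this

omit [Finite G] in
theorem bg51_comm_le (E : Subgroup G) : ⁅E, E⁆ ≤ E :=
  Subgroup.commutator_le.mpr (fun _ ha _ hb =>
    E.mul_mem (E.mul_mem (E.mul_mem ha hb) (E.inv_mem ha)) (E.inv_mem hb))

/-- first facts on a `τ₃`-nonregular datum: `P ⊴ E`, `P ≤ E'`, `τ₂(M) = ∅`, and
`C_{M_σ}(P)` is centralized by `E'` (FACT F). -/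
theorem bg51_aux (hG : IsMinSimpleOddOrder G) {M E P : Subgroup G} {p : ℕ} (h : T3NR M E P p) :
    E ≤ normalizer (P : Set G) ∧ P ≤ ⁅E, E⁆ ∧ (∀ r : ℕ, r ∉ tau2 M) ∧
    sigmaCore M ⊓ centralizer (P : Set G) ≤ centralizer ((⁅E, E⁆ : Subgroup G) : Set G) := by
  have hU : Cfsg.Agent.Helper22.BGUniq G :=
    fun K hK h1 h2 => Cfsg.Agent.S1403.result hG K hK h1 h2
  obtain ⟨hM, hE, hp, hPE, hP, hne⟩ := h
  have hpp : p.Prime := hp.1
  haveI := Fact.mk hpp
  have hpσ : p ∉ sigma M := hp.2.1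
  have hp1 : PRankLE p 1 ↥M := hp.2.2.2
  have hPp : IsPGroup p P := IsPGroup.of_card (n := 1) (by rw [hP, pow_one])
  obtain ⟨hEP, hPE', -⟩ := Cfsg.Agent.Helper98.bg14_normal_in_compl hG hM hE hp hPE hPp
  obtain ⟨H, hH, hNH, hnc⟩ := Cfsg.Agent.Helper98.bg14_exists_coatom hG hM hpσ hp1 hP
  have hHM : H ≠ M := by
    intro e
    apply hnc 1
    rw [e]
    ext x
    simp
  have hEH : E ≤ H := hEP.trans hNH
  have hEM : E ≤ M := hE.1
  have hKH : sigmaCore M ⊓ centralizer (P : Set G) ≤ H :=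
    inf_le_right.trans ((Subgroup.centralizer_le_normalizer _).trans hNH)
  have hD : sigmaCore M ⊓ H ≠ ⊥ := fun e => hne (le_bot_iff.mp (e ▸ le_inf inf_le_left hKH))
  refine ⟨hEP, hPE', ?_, ?_⟩
  · intro r hr
    haveI := Fact.mk hr.1
    exact Cfsg.Agent.Helper50.bg14_not_tau2 hG hM hE hH hHM hEH hD hr
  · have hEK : E ≤ normalizer ((sigmaCore M ⊓ centralizer (P : Set G) : Subgroup G) : Set G) := by
      intro e he
      exact Cfsg.Agent.Helper22.bg14_mem_normalizer_inf
        (Cfsg.Agent.Helper23.le_normalizer_piCoreOf (sigma M) M (hEM he))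
        (bg51_normalizer_centralizer (hEP he))
    rw [Subgroup.le_centralizer_iff]
    apply bg51_le_of_prime_pow
    intro x hx r k hr hxr
    rw [Subgroup.mem_centralizer_iff]
    intro d hd
    by_cases hx1 : x = 1
    · rw [hx1, mul_one, one_mul]
    haveI := Fact.mk hr
    have hxE : x ∈ E := bg51_comm_le E hx
    have hrE : r ∣ Nat.card E := by
      have h1 : orderOf x ∣ r ^ k := orderOf_dvd_of_pow_eq_one hxr
      obtain ⟨j, -, hj⟩ := (Nat.dvd_prime_pow hr).mp h1
      have hj0 : j ≠ 0 := by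
        rintro rfl
        rw [pow_zero] at hj
        exact hx1 (orderOf_eq_one_iff.mp hj)
      have h2 : r ∣ orderOf x := by rw [hj]; exact dvd_pow_self r hj0
      exact h2.trans (Subgroup.orderOf_dvd_natCard E hxE)
    have hrM : r ∉ sigma M := Cfsg.Agent.Helper22.bg12_not_sigma_of_dvd hG hU hM hE hr hrE
    have hR : IsPGroup r (zpowers x) := by
      rintro ⟨w, hw⟩
      obtain ⟨t, rfl⟩ := Subgroup.mem_zpowers_iff.mp hw
      refine ⟨k, Subtype.ext ?_⟩
      simp only [Subgroup.coe_pow, Subgroup.coe_one]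
      rw [← zpow_natCast, ← zpow_mul, mul_comm, zpow_mul, zpow_natCast, hxr, one_zpow]
    have hRL : zpowers x ≤ ⁅H, H⁆ :=
      Subgroup.zpowers_le.mpr (Subgroup.commutator_mono hEH hEH hx)
    have hRD : zpowers x ≤
        normalizer ((sigmaCore M ⊓ centralizer (P : Set G) : Subgroup G) : Set G) :=
      Subgroup.zpowers_le.mpr (hEK hxE)
    exact (Cfsg.Agent.Helper24.bg13_factF hG hM hH hnc hrM hR hRL inf_le_left hKH hRD d hd x
      (Subgroup.mem_zpowers x)).symm

/-- **(B0)**: the basic structure of a `τ₃`-nonregular datum. -/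
theorem bg51_base (hG : IsMinSimpleOddOrder G) {M E P : Subgroup G} {p : ℕ} (h : T3NR M E P p) :
    E ≤ normalizer (P : Set G) ∧ P ≤ ⁅E, E⁆ ∧ (∀ r : ℕ, r ∉ tau2 M) ∧
    sigmaCore M ⊓ centralizer (P : Set G) ≤ centralizer ((⁅E, E⁆ : Subgroup G) : Set G) ∧
    IsPiHallOf (tau3 M) ⁅E, E⁆ E ∧ IsCyclic ↥⁅E, E⁆ ∧
    (∀ r : ℕ, r.Prime → r ∣ Nat.card E → r ∈ tau1 M ∪ tau3 M) ∧
    (∀ P' : Subgroup G, P' ≤ E → Nat.card P' ∈ tau3 M →
      sigmaCore M ⊓ centralizer (P' : Set G) = sigmaCore M ⊓ centralizer (P : Set G)) := by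
  have hU : Cfsg.Agent.Helper22.BGUniq G :=
    fun K hK h1 h2 => Cfsg.Agent.S1403.result hG K hK h1 h2
  obtain ⟨hEP, hPE', hτ2, hKE'⟩ := bg51_aux hG h
  obtain ⟨hM, hE, hp, hPE, hP, hne⟩ := h
  have hEM : E ≤ M := hE.1
  have h13 : ∀ r : ℕ, r.Prime → r ∣ Nat.card E → r ∈ tau1 M ∪ tau3 M := by
    intro r hr hrE
    have hrσ : r ∉ sigma M := Cfsg.Agent.Helper22.bg12_not_sigma_of_dvd hG hU hM hE hr hrE
    have hr2' : PRankLE r 2 ↥M :=
      Cfsg.Agent.Helper22.bg10_pRank_of_not_alpha M r hr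
        (fun h => hrσ (Cfsg.Agent.Helper22.bg10_alpha_sub_sigma hG hU hM h))
    have hr1 : PRankLE r 1 ↥M := by
      by_contra h
      exact hτ2 r ⟨hr, hrσ, hr2', h⟩
    have hrM : r ∣ Nat.card M := hrE.trans (Subgroup.card_dvd_of_le hEM)
    by_cases h : r ∣ Nat.card ↥⁅M, M⁆
    · exact Or.inr ⟨hr, hrσ, h, hr1⟩
    · exact Or.inl ⟨hr, hrσ, hrM, h, hr1⟩
  have hHall : IsPiHallOf (tau3 M) ⁅E, E⁆ E := by
    refine ⟨bg51_comm_le E, ?_, ?_⟩
    · intro r hr hrd
      rcases h13 r hr (hrd.trans (Subgroup.card_dvd_of_le (bg51_comm_le E))) with h1 | h3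
      · exact absurd (hrd.trans (Subgroup.card_dvd_of_le (Subgroup.commutator_mono hEM hEM)))
          h1.2.2.2.1
      · exact h3
    · intro r hr hr3 hdvd
      haveI := Fact.mk hr
      obtain ⟨S⟩ : Nonempty (Sylow r ↥E) := inferInstance
      have hQE : (S : Subgroup ↥E).map E.subtype ≤ E := Subgroup.map_subtype_le _
      have hQr : IsPGroup r ((S : Subgroup ↥E).map E.subtype) := S.2.map _
      have hQ' := (Cfsg.Agent.Helper98.bg14_normal_in_compl hG hM hE hr3 hQE hQr).2.1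
      have h1 : ((S : Subgroup ↥E).map E.subtype).relIndex E = (S : Subgroup ↥E).index := by
        have h2 : ((S : Subgroup ↥E).map E.subtype).subgroupOf E = (S : Subgroup ↥E) :=
          Subgroup.comap_map_eq_self_of_injective E.subtype_injective _
        rw [Subgroup.relIndex, h2]
      have h3 := hdvd.trans (Subgroup.relIndex_dvd_of_le_left E hQ')
      rw [h1] at h3
      exact S.not_dvd_index h3
  have hcyc : IsCyclic ↥⁅E, E⁆ := ((Cfsg.Agent.S1415.result hG M hM E hE).2.2 _ hHall).1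
  refine ⟨hEP, hPE', hτ2, hKE', hHall, hcyc, h13, ?_⟩
  intro P' hP'E hp'
  have hp'p : (Nat.card P').Prime := hp'.1
  have hP'p : IsPGroup (Nat.card P') P' := IsPGroup.of_card (n := 1) (by rw [pow_one])
  have hP'E' := (Cfsg.Agent.Helper98.bg14_normal_in_compl hG hM hE hp' hP'E hP'p).2.1
  have hle : sigmaCore M ⊓ centralizer (P : Set G) ≤ sigmaCore M ⊓ centralizer (P' : Set G) :=
    le_inf inf_le_left (hKE'.trans (Subgroup.centralizer_le (by exact_mod_cast hP'E')))
  have hne' : sigmaCore M ⊓ centralizer (P' : Set G) ≠ ⊥ :=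
    fun e => hne (le_bot_iff.mp (e ▸ hle))
  have h' : T3NR M E P' (Nat.card P') := ⟨hM, hE, hp', hP'E, rfl, hne'⟩
  obtain ⟨-, -, -, hK'E'⟩ := bg51_aux hG h'
  exact le_antisymm
    (le_inf inf_le_left (hK'E'.trans (Subgroup.centralizer_le (by exact_mod_cast hPE')))) hle

end Cfsg.Agent.Helper62
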