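import Cfsg.Agent.Helper49.BGCDefs2
import Cfsg.Agent.Helper24.BG13V

/-!
# S1351 part (C), piece HX (CALL S1351C)
-/

set_option autoImplicit false

namespace Cfsg.Agent.Helper62

open Cfsg Subgroup Cfsg.Agent.Helper49

universe u

variable {G : Type u} [Group G] [Finite G]

/-- HX. A prime-order subgroup `X` of `Z` has `|X| ∈ τ₁(H) ∪ τ₃(H)`. -/
theorem starc_X_tau (hG : IsMinSimpleOddOrder G) {M E P : Subgroup G} {p : ℕ} {H : Subgroup G}
    (h : StarHCtx M E P p H) {X : Subgroup G} (hXZ : X ≤ starZ M E) (hX : (Nat.card X).Prime) :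
    Nat.card X ∈ tau1 H ∪ tau3 H := by
  have hU : Cfsg.Agent.Helper22.BGUniq G :=
    fun K hK h1 h2 => Cfsg.Agent.S1403.result hG K hK h1 h2
  have hM : IsCoatom M := h.ctx.coatom
  have hH : IsCoatom H := h.coatomH
  have hHM : H ≠ M := by
    intro e
    apply h.nconj 1
    rw [e]
    ext x
    simp
  have hσM : sigmaCore M ≤ M := Cfsg.Agent.Helper23.piCoreOf_le _ _
  have hXσ : X ≤ sigmaCore M := hXZ.trans inf_le_left
  have hXE : X ≤ centralizer (E : Set G) := hXZ.trans inf_le_right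
  have htσ : Nat.card X ∈ sigma M :=
    Cfsg.Agent.Helper23.mem_of_dvd_card_piCoreOf (sigma M) M hX (Subgroup.card_dvd_of_le hXσ)
  have htH : Nat.card X ∉ sigma H := h.sigma_disj _ htσ
  have hXM : X ≤ M := hXσ.trans hσM
  have hXH : X ≤ H := hXZ.trans h.Z_le
  obtain ⟨Y, hYE, hY, -, -, hYσ⟩ := h.overY
  have hY1 : Y ≠ ⊥ := by
    intro e
    rw [e, Subgroup.card_bot] at hY
    exact Nat.not_prime_one hY
  have ht2 : Nat.card X ∉ tau2 H := by
    refine Cfsg.Agent.Helper24.bg13u_star_not_tau2 hG hM hH hHM htσ htH hXM hXH rfl ?_ ?_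
    · intro e
      apply hY1
      rw [eq_bot_iff, ← e]
      refine le_inf hYσ ?_
      intro y hy
      rw [Subgroup.mem_centralizer_iff]
      intro x hx
      exact (Subgroup.mem_centralizer_iff.mp (hXE hx) y (hYE hy)).symm
    · intro e
      apply hY1
      rw [eq_bot_iff, ← e]
      exact le_inf (le_inf (hYE.trans h.ctx.compl.1) (hYE.trans h.E_le)) hYσ
  have ht2' : PRankLE (Nat.card X) 2 ↥H :=
    Cfsg.Agent.Helper22.bg10_pRank_of_not_alpha H _ hX
      (fun h' => htH (Cfsg.Agent.Helper22.bg10_alpha_sub_sigma hG hU hH h'))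
  have ht1 : PRankLE (Nat.card X) 1 ↥H := by
    by_contra h'
    exact ht2 ⟨hX, htH, ht2', h'⟩
  by_cases hd : Nat.card X ∣ Nat.card ↥⁅H, H⁆
  · exact Or.inr ⟨hX, htH, hd, ht1⟩
  · exact Or.inl ⟨hX, htH, Subgroup.card_dvd_of_le hXH, hd, ht1⟩

end Cfsg.Agent.Helper62
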