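import Cfsg.Agent.Helper62.BG51B
import Cfsg.Agent.Helper49.BGCDefs

/-!
# S1351, parts (A)+(B) packaged as helper49's interface `StarAB`

Given Theorem (i) (part (A)) for every `τ₃`-nonregular datum, `bg51_base` and `bg51_star` give
`Cfsg.Agent.Helper49.StarAB G`.
-/

set_option autoImplicit false

namespace Cfsg.Agent.Helper62

open Cfsg Subgroup

universe u

variable {G : Type u} [Group G] [Finite G]

/-- Parts (A)+(B) of S1351 in the form consumed by part (C). -/
theorem bg51_star_AB (hG : IsMinSimpleOddOrder G)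
    (hAi : ∀ (M E P : Subgroup G) (p : ℕ), T3NR M E P p →
      sigmaCore M ⊓ centralizer (P : Set G) ≤ centralizer (E : Set G)) :
    Cfsg.Agent.Helper49.StarAB G := by
  intro M E P p hM hE hp hPE hP hne
  have h : T3NR M E P p := ⟨hM, hE, hp, hPE, hP, hne⟩
  have hA := hAi M E P p h
  obtain ⟨-, -, hτ2, -⟩ := bg51_base hG h
  obtain ⟨-, -, -, hy, hY⟩ := bg51_star hG h hA
  have hZ : sigmaCore M ⊓ centralizer (P : Set G) = sigmaCore M ⊓ centralizer (E : Set G) := by
    apply le_antisymm
    · exact le_inf inf_le_left hA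
    · exact inf_le_inf_left _ (Subgroup.centralizer_le hPE)
  refine ⟨Set.eq_empty_iff_forall_notMem.mpr hτ2, ?_, hY⟩
  intro y hyE hy1
  rw [hy y hyE hy1, hZ]

end Cfsg.Agent.Helper62
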