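import Cfsg.Agent.Helper19.ThompsonThesis
import Cfsg.Agent.Helper72.BG14ZT1

/-!
# Pieces for S1372 (B&G Theorem 14.2(b),(c)), part C
-/

set_option autoImplicit false
open Cfsg Subgroup

namespace Cfsg.Agent.Helper62

universe u

variable {G : Type u} [Group G] [Finite G]

/-- P4: in a nilpotent subgroup `F`, an element of order dividing `p` commutes with every
subgroup of order prime to `p`. -/
theorem bg72_nilp_comm {F S : Subgroup G} (hnil : Group.IsNilpotent F) (hSF : S ≤ F) {p : ℕ}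
    (hp : p.Prime) (hS : ¬ p ∣ Nat.card S) {y : G} (hy : y ∈ F) (hyp : y ^ p = 1) :
    ∀ s ∈ S, y * s = s * y := by
  intro s hs
  haveI := hnil
  have h1 : (⟨s, hs⟩ : ↥S) ^ Nat.card S = 1 := pow_card_eq_one'
  have h2 : s ^ Nat.card S = 1 := by
    have := congrArg Subtype.val h1
    rwa [Subgroup.coe_pow, Subgroup.coe_one] at this
  have h3 := Cfsg.Agent.Helper19.commute_of_coprime_of_nilpotent ↥F ⟨y, hy⟩ ⟨s, hSF hs⟩ p
    (Nat.card S) ((Nat.Prime.coprime_iff_not_dvd hp).mpr hS) (Subtype.ext (by simpa using hyp))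
    (Subtype.ext (by simpa using h2))
  have := congrArg Subtype.val h3
  simpa using this

/-- P11: if `L'` has a normal `q`-complement, `S` is a nilpotent normal subgroup of `L` of order
divisible by `q` and `U ≤ L'` has order prime to `q`, then `C_S(U) ≠ 1`. -/
theorem bg72_sylow_cent {L S U : Subgroup G} {q : ℕ} (hq : q.Prime)
    (hnpc : Cfsg.HasNormalPComplement q ↥⁅L, L⁆) (hUL : U ≤ ⁅L, L⁆) (hSL : S ≤ L)
    (hLS : L ≤ normalizer (S : Set G)) (hnil : Group.IsNilpotent S) (hqS : q ∣ Nat.card S)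
    (hqU : ¬ q ∣ Nat.card U) : S ⊓ centralizer (U : Set G) ≠ ⊥ := by
  haveI := Fact.mk hq
  haveI := hnil
  obtain ⟨P0⟩ : Nonempty (Sylow q ↥S) := inferInstance
  haveI hP0 : (P0 : Subgroup ↥S).Normal :=
    Sylow.normal_of_normalizerCondition Group.normalizerCondition_of_isNilpotent P0
  have hTS : (P0 : Subgroup ↥S).map S.subtype ≤ S := Subgroup.map_subtype_le _
  have hTp : IsPGroup q ((P0 : Subgroup ↥S).map S.subtype) := P0.2.map _
  -- uniqueness
  have uniq : ∀ Q : Subgroup G, Q ≤ S → IsPGroup q Q → Q ≤ (P0 : Subgroup ↥S).map S.subtype := by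
    intro Q hQS hQ
    have hQ' : IsPGroup q (Q.subgroupOf S) := hQ.comap_subtype
    have hsup : IsPGroup q (Q.subgroupOf S ⊔ (P0 : Subgroup ↥S) : Subgroup ↥S) :=
      IsPGroup.to_sup_of_normal_right hQ' P0.2
    have h1 := P0.3 hsup le_sup_right
    have h2 : Q.subgroupOf S ≤ (P0 : Subgroup ↥S) := by
      rw [← h1]; exact le_sup_left
    intro x hx
    exact ⟨⟨x, hQS hx⟩, h2 (Subgroup.mem_subgroupOf.mpr hx), rfl⟩
  -- `L` normalizes `T`
  have hconj : ∀ l ∈ L, ∀ t ∈ (P0 : Subgroup ↥S).map S.subtype,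
      l * t * l⁻¹ ∈ (P0 : Subgroup ↥S).map S.subtype := by
    intro l hl t ht
    have hQS : ((P0 : Subgroup ↥S).map S.subtype).map (MulAut.conj l).toMonoidHom ≤ S := by
      rintro _ ⟨x, hx, rfl⟩
      exact (Subgroup.mem_normalizer_iff.mp (hLS hl) x).mp (hTS hx)
    exact uniq _ hQS (hTp.map _) ⟨t, ht, rfl⟩
  have hLT : L ≤ normalizer (((P0 : Subgroup ↥S).map S.subtype : Subgroup G) : Set G) := by
    intro l hl
    rw [Subgroup.mem_normalizer_iff]
    intro x
    refine ⟨hconj l hl x, fun hx => ?_⟩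
    have := hconj l⁻¹ (L.inv_mem hl) _ hx
    have e : l⁻¹ * (l * x * l⁻¹) * l⁻¹⁻¹ = x := by group
    rwa [e] at this
  have hLL : ⁅L, L⁆ ≤ L := Subgroup.commutator_le.mpr (fun a ha b hb =>
    L.mul_mem (L.mul_mem (L.mul_mem ha hb) (L.inv_mem ha)) (L.inv_mem hb))
  -- `U` centralizes `T`
  have hcent : ∀ u ∈ U, ∀ y ∈ (P0 : Subgroup ↥S).map S.subtype, u * y = y * u := by
    intro u hu
    have h1 : (⟨u, hu⟩ : ↥U) ^ Nat.card U = 1 := pow_card_eq_one'
    have h2 : u ^ Nat.card U = 1 := by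
      have := congrArg Subtype.val h1
      rwa [Subgroup.coe_pow, Subgroup.coe_one] at this
    exact Cfsg.Agent.Helper72.zt1_cent hq hnpc (hUL hu) h2
      (Nat.Coprime.symm ((Nat.Prime.coprime_iff_not_dvd hq).mpr hqU)) (hTS.trans hSL) hTp
      (hLT (hLL (hUL hu)))
  intro e
  have hT1 : (P0 : Subgroup ↥S).map S.subtype = ⊥ := by
    rw [eq_bot_iff, ← e]
    refine le_inf hTS (fun y hy => ?_)
    rw [Subgroup.mem_centralizer_iff]
    intro u hu
    exact hcent u hu y hy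
  have hP0bot : (P0 : Subgroup ↥S) = ⊥ := by
    rw [eq_bot_iff]
    intro x hx
    have : (x : G) ∈ (P0 : Subgroup ↥S).map S.subtype := ⟨x, hx, rfl⟩
    rw [hT1, Subgroup.mem_bot] at this
    exact Subgroup.mem_bot.mpr (Subtype.ext this)
  exact P0.ne_bot_of_dvd_card hqS hP0bot

end Cfsg.Agent.Helper62
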