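/-
CALL S1437 (helper2), piece QX: the normal Sylow `q`-subgroup of `M_σ`, `q = |K*|`.
-/
import Cfsg.Agent.S1373
import Cfsg.Agent.Helper23.Uniq
import Cfsg.Agent.Helper25.BG15Main
import Cfsg.Agent.Helper25.BG15AC
import Cfsg.Agent.Helper49.BG15AH

set_option autoImplicit false

namespace Cfsg.Agent.Helper62

open Cfsg Subgroup

universe u

variable {G : Type u} [Group G] [Finite G]

/-- QX. The normal Sylow `q`-subgroup of `M_σ`, `q = |K*|`. -/
theorem bg15b_exists_Q (hG : IsMinSimpleOddOrder G) {M K U : Subgroup G} (hM : IsCoatom M)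
    (hKU : IsSigmaDecomposition M K U) (hK1 : K ≠ ⊥) (hU : U = ⊥) :
    ∃ Q : Subgroup G, Q ≤ fittingHallOf M ∧ Q ≤ sigmaCore M ∧ M ≤ normalizer (Q : Set G) ∧
      IsPGroup (Nat.card ↥(sigmaCore M ⊓ centralizer (K : Set G))) Q ∧
      ¬ Nat.card ↥(sigmaCore M ⊓ centralizer (K : Set G)) ∣ Q.relIndex (sigmaCore M) ∧
      sigmaCore M ⊓ centralizer (K : Set G) ≤ Q := by
  classical
  have hprime := Cfsg.Agent.S1373.result hG M hM K U hKU hK1 hU
  obtain ⟨p, q, k, z, hp, hq, hkp, hpL, hzL, hzq, hzk, hfix, hz', hKs⟩ :=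
    Cfsg.Agent.Helper49.bg15_app_hyps hG M hM K U hKU hK1 hU hprime
  have hodd : Odd (Nat.card ↥M) := Cfsg.Agent.Helper23.uq_odd hG M
  haveI hsolM : Group.IsSolvable ↥M := Cfsg.Agent.Helper23.uq_isSolvable hG hM.1
  have hsol : Group.IsSolvable ↥(Cfsg.piCore (Cfsg.sigma M) ↥M) := inferInstance
  obtain ⟨Q, hQL, hQq, hQidx, hQn, hzQ⟩ :=
    Cfsg.Agent.Helper25.bg15_sylow_normal hodd (Cfsg.piCore (Cfsg.sigma M) ↥M) hsol hp hq hkp
      hpL hzL hzq hzk hfix hz'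
  have hQF := Cfsg.Agent.Helper25.bg15_app_concl hG M hM hq Q hQn hQL hQq hQidx
  have hcardZ : Nat.card ↥(sigmaCore M ⊓ centralizer (K : Set G)) = q := by
    rw [hKs, Subgroup.card_map_of_injective M.subtype_injective, Nat.card_zpowers, hzq]
  rw [hcardZ]
  refine ⟨Q.map M.subtype, Subgroup.map_mono hQF, Subgroup.map_mono hQL, ?_, hQq.map _, ?_, ?_⟩
  · intro m hm
    rw [mem_normalizer_iff]
    intro x
    constructor
    · rintro ⟨y, hy, rfl⟩
      exact ⟨⟨m, hm⟩ * y * ⟨m, hm⟩⁻¹, hQn.conj_mem y hy ⟨m, hm⟩, rfl⟩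
    · rintro ⟨y, hy, hyx⟩
      refine ⟨⟨m, hm⟩⁻¹ * y * ⟨m, hm⟩, ?_, ?_⟩
      · have h1 := hQn.conj_mem y hy (⟨m, hm⟩⁻¹ : ↥M)
        simpa using h1
      · have h2 : M.subtype y = m * x * m⁻¹ := hyx
        show m⁻¹ * (M.subtype y) * m = x
        rw [h2]; group
  · show ¬ q ∣ (Q.map M.subtype).relIndex ((piCore (sigma M) ↥M).map M.subtype)
    rw [Subgroup.relIndex_map_map_of_injective Q (piCore (sigma M) ↥M) M.subtype_injective]
    exact hQidx
  · rw [hKs]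
    exact Subgroup.map_mono (Subgroup.zpowers_le.mpr hzQ)

end Cfsg.Agent.Helper62
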