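import Mathlib
import Cfsg.Agent.S1351
import Cfsg.Agent.S1352
import Cfsg.Agent.S1364

set_option autoImplicit false

namespace Cfsg.Agent.Helper62

open Cfsg Subgroup

universe u

variable {G : Type u} [Group G] [Finite G]

/-- KEL (CALL S1390, helper24). For `r ∈ κ(M)`: an element `k ∈ M` of order `r` centralizing some
`y ≠ 1` of `M_F`. -/
theorem bg90_kappa_elt (hG : IsMinSimpleOddOrder G) {M : Subgroup G} (hM : IsCoatom M) {r : ℕ}
    (hr : r ∈ kappa M) :
    ∃ k y : G, k ∈ M ∧ orderOf k = r ∧ y ∈ fittingHallOf M ∧ y ≠ 1 ∧ k * y = y * k := by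
  have hrp : r.Prime := hr.1
  have := Fact.mk hrp
  obtain ⟨⟨K, hK⟩, hcyc⟩ := Cfsg.Agent.S1351.result hG M hM
  have hKc := hcyc K hK
  obtain ⟨⟨U, hKU⟩, -⟩ := Cfsg.Agent.S1352.result hG M hM K hKc hK
  have hcard : Nat.card K * K.relIndex M = Nat.card M := by
    have := Subgroup.relIndex_mul_relIndex ⊥ K M bot_le hK.1
    rwa [Subgroup.relIndex_bot_left, Subgroup.relIndex_bot_left] at this
  have hrK : r ∣ Nat.card K := by
    have h1 : r ∣ Nat.card K * K.relIndex M := by rw [hcard]; exact hr.2.1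
    rcases (Nat.Prime.dvd_mul hrp).mp h1 with h | h
    · exact h
    · exact absurd h (hK.2.2 r hrp hr)
  have hK1 : K ≠ ⊥ := by
    intro h
    rw [h, Subgroup.card_bot] at hrK
    exact hrp.one_lt.ne' (Nat.dvd_one.mp hrK)
  obtain ⟨k, hk⟩ := exists_prime_orderOf_dvd_card' (G := ↥K) r hrK
  obtain ⟨-, hne, hle, -⟩ := Cfsg.Agent.S1364.result hG M hM K U hKU hK1
  obtain ⟨y, hy⟩ := (Subgroup.ne_bot_iff_exists_ne_one).mp hne
  refine ⟨(k : G), (y : G), hK.1 k.2, ?_, hle y.2, fun h => hy (Subtype.ext h), ?_⟩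
  · rw [← hk]
    exact Subgroup.orderOf_coe k
  · have hyC := (Subgroup.mem_inf.mp y.2).2
    exact Subgroup.mem_centralizer_iff.mp hyC (k : G) k.2

end Cfsg.Agent.Helper62
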