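import Mathlib
import Cfsg.Agent.S1432

set_option autoImplicit false

namespace Cfsg.Agent.Helper62

open Cfsg Subgroup

universe u

variable {G : Type u} [Group G] [Finite G]

/-- REG (CALL S1390, helper24). If `κ(M) = ∅`, the `τ₁ ∪ τ₃`-elements of a complement `E` act
without fixed points on `M_σ`. -/
theorem bg90_reg13 (hG : IsMinSimpleOddOrder G) {M E : Subgroup G} (hM : IsCoatom M)
    (hκ : ∀ p : ℕ, p ∉ kappa M) (hE : IsComplIn E (sigmaCore M) M) :
    ∀ e ∈ E, e ≠ 1 → (∀ p : ℕ, p.Prime → p ∣ orderOf e → p ∈ tau1 M ∪ tau3 M) →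
      sigmaCore M ⊓ centralizer ({e} : Set G) = ⊥ := by
  intro e heE he1 h13
  by_contra hne
  obtain ⟨y, hy⟩ := (Subgroup.ne_bot_iff_exists_ne_one).mp hne
  have hyS : (y : G) ∈ sigmaCore M := (Subgroup.mem_inf.mp y.2).1
  have hyC : (y : G) ∈ centralizer ({e} : Set G) := (Subgroup.mem_inf.mp y.2).2
  have hy1 : (y : G) ≠ 1 := fun h => hy (Subtype.ext h)
  have hey : e * (y : G) = (y : G) * e :=
    Subgroup.mem_centralizer_iff.mp hyC e (Set.mem_singleton e)
  have heC : e ∈ M ⊓ centralizer ({(y : G)} : Set G) := by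
    refine Subgroup.mem_inf.mpr ⟨hE.1 heE, ?_⟩
    rw [Subgroup.mem_centralizer_iff]
    intro h hh
    rw [Set.mem_singleton_iff.mp hh]
    exact hey.symm
  have hσ : ∀ p : ℕ, p.Prime → p ∣ orderOf e → p ∉ sigma M := by
    intro p hp hpd
    rcases h13 p hp hpd with h | h
    · exact h.2.1
    · exact h.2.1
  have hord : orderOf e ≠ 1 := fun h => he1 (orderOf_eq_one_iff.mp h)
  obtain ⟨p, hp, hpd⟩ := Nat.exists_prime_and_dvd hord
  rcases Cfsg.Agent.S1432.result hG M hM (y : G) hyS hy1 e heC he1 hσ with ⟨h1, -⟩ | ⟨h2, -, -⟩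
  · exact hκ p (h1 p hp hpd)
  · have hr1 : PRankLE p 1 ↥M := by
      rcases h13 p hp hpd with h | h
      · exact h.2.2.2.2
      · exact h.2.2.2
    exact (h2 p hp hpd).2.2.2 hr1

end Cfsg.Agent.Helper62
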