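import Mathlib
import Cfsg.Agent.S1403
import Cfsg.Agent.S1420
import Cfsg.Agent.Helper20.BG13P4
import Cfsg.Agent.Helper22.BG10b
import Cfsg.Agent.Helper21.PRank

set_option autoImplicit false

namespace Cfsg.Agent.Helper62

open Cfsg Subgroup

universe u

variable {G : Type u} [Group G] [Finite G]

/-- SYL (CALL S1390, helper24). Sylow subgroups of a `σ(M)'`-subgroup `U` of `M` are abelian of
rank `≤ 2`. -/
theorem bg90_sylow (hG : IsMinSimpleOddOrder G) {M U : Subgroup G} (hM : IsCoatom M)
    (hUM : U ≤ M) (hσ : ∀ p : ℕ, p.Prime → p ∣ Nat.card U → p ∉ sigma M) :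
    ∀ (p : ℕ), p.Prime → ∀ P : Sylow p U,
      IsMulCommutative (P : Subgroup U) ∧ PRankLE p 2 (P : Subgroup U) := by
  intro p hp P
  have := Fact.mk hp
  have hU : Cfsg.Agent.Helper22.BGUniq G :=
    fun K hK h1 h2 => Cfsg.Agent.S1403.result hG K hK h1 h2
  obtain ⟨E, hE, -⟩ := Cfsg.Agent.Helper20.bg13_exists_compl_ge hG hU hM
    (K := ⊥) bot_le (by simp)
  have h20 := (Cfsg.Agent.S1420.result hG M hM E hE).1
  have hQM : (P : Subgroup U).map U.subtype ≤ M := by
    rintro _ ⟨y, -, rfl⟩
    exact hUM y.2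
  have hQp : IsPGroup p ((P : Subgroup U).map U.subtype) := P.isPGroup'.map U.subtype
  have hQnil : Group.IsNilpotent ((P : Subgroup U).map U.subtype) := hQp.isNilpotent
  have hcard : Nat.card ((P : Subgroup U).map U.subtype) = Nat.card (P : Subgroup U) :=
    Subgroup.card_map_of_injective U.subtype_injective
  have hQσ : ∀ q : ℕ, q.Prime → q ∣ Nat.card ((P : Subgroup U).map U.subtype) → q ∉ sigma M := by
    intro q hq hqd
    rw [hcard] at hqd
    exact hσ q hq (hqd.trans (Subgroup.card_subgroup_dvd_card _))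
  have hQc : IsMulCommutative ((P : Subgroup U).map U.subtype) := h20 _ hQM hQnil hQσ
  refine ⟨⟨⟨fun a b => ?_⟩⟩, ?_⟩
  · have ha : ((a : U) : G) ∈ (P : Subgroup U).map U.subtype := ⟨a.1, a.2, rfl⟩
    have hb : ((b : U) : G) ∈ (P : Subgroup U).map U.subtype := ⟨b.1, b.2, rfl⟩
    have h1 := hQc.is_comm.comm ⟨_, ha⟩ ⟨_, hb⟩
    have h2 : ((a : U) : G) * ((b : U) : G) = ((b : U) : G) * ((a : U) : G) :=
      congrArg Subtype.val h1
    apply Subtype.ext
    apply Subtype.ext
    exact h2
  · by_cases hpd : p ∣ Nat.card U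
    · have hpσ := hσ p hp hpd
      have hpα : p ∉ alpha M :=
        fun h => hpσ (Cfsg.Agent.Helper22.bg10_alpha_sub_sigma hG hU hM h)
      have hr : PRankLE p 2 ↥M := Cfsg.Agent.Helper22.bg10_pRank_of_not_alpha M p hp hpα
      refine Cfsg.Agent.Helper21.pRankLE_of_injective
        ((Subgroup.inclusion hUM).comp (P : Subgroup U).subtype) ?_ hr
      exact (Subgroup.inclusion_injective hUM).comp (Subgroup.subtype_injective _)
    · intro A _ _
      have h1 : Nat.card (P : Subgroup U) = 1 := by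
        obtain ⟨n, hn⟩ := (IsPGroup.iff_card).mp P.isPGroup'
        have h2 : Nat.card (P : Subgroup U) ∣ Nat.card U := Subgroup.card_subgroup_dvd_card _
        rcases Nat.eq_zero_or_pos n with h0 | hpos
        · rw [hn, h0, pow_zero]
        · exfalso
          apply hpd
          refine dvd_trans ?_ h2
          rw [hn]
          exact dvd_pow_self p (Nat.pos_iff_ne_zero.mp hpos)
      have h3 : Nat.card A ≤ Nat.card (P : Subgroup U) := Subgroup.card_le_card_group A
      have h4 : 1 ≤ p ^ 2 := Nat.one_le_pow _ _ hp.pos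
      omega

end Cfsg.Agent.Helper62
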