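/-
helper62: piece SW1 of CALL S1428 (architect helper2): the maximal subgroup `H` over `N_G(P)`,
an `R`-invariant Sylow subgroup `S` of `C_{M_σ}(P)` with `[S,R] ≠ 1` (first lines of step (SW)
of insight 3428).
-/
import Cfsg.Agent.Helper2.BG13Defs
import Cfsg.Agent.Helper62.BG12d
import Cfsg.Agent.Helper35.CoprimeAbelian
import Cfsg.Agent.Helper24.BG1217
import Cfsg.Agent.S1409
import Cfsg.Agent.S1422

set_option autoImplicit false

namespace Cfsg.Agent.Helper62

open Cfsg Subgroup Cfsg.Agent.Helper2 Cfsg.Agent.Helper22 Cfsg.Agent.Helper23 Cfsg.Agent.Helper35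
open scoped commutatorElement

universe u

variable {G : Type u} [Group G] [Finite G]

/-- PIECE SW1 of CALL S1428. -/
theorem bg13_sw_exists (hG : IsMinSimpleOddOrder G) {M E P R : Subgroup G} {p r : ℕ}
    (hM : IsCoatom M) (hE : IsComplIn E (sigmaCore M) M) (hp : p ∈ tau1 M) (hPE : P ≤ E)
    (hP : Nat.card P = p) (hRE : R ≤ E) (hRP : R ≤ centralizer (P : Set G)) (hr : r.Prime)
    (hR : Nat.card R = r) (hrp : r ≠ p)
    (hne : ¬ sigmaCore M ⊓ centralizer (P : Set G) ≤ centralizer (R : Set G)) :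
    ∃ (H S : Subgroup G) (q : ℕ), IsCoatom H ∧ normalizer (P : Set G) ≤ H ∧ q.Prime ∧
      IsSylowOf q S (sigmaCore M ⊓ centralizer (P : Set G)) ∧
      R ≤ normalizer (S : Set G) ∧ (⁅S, R⁆ : Subgroup G) ≠ ⊥ ∧ (⁅S, R⁆ : Subgroup G) ≤ S ∧
      R ≤ normalizer ((⁅S, R⁆ : Subgroup G) : Set G) ∧
      (⁅S, R⁆ : Subgroup G) ⊓ centralizer (R : Set G) = ⊥ := by
  have hU : BGUniq G := fun K hK h1 h2 => Cfsg.Agent.S1403.result hG K hK h1 h2
  have hpp : p.Prime := hp.1
  haveI : Fact p.Prime := ⟨hpp⟩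
  haveI : Fact r.Prime := ⟨hr⟩
  haveI := hG.2.1
  have hKM : sigmaCore M ≤ M := piCoreOf_le _ _
  have hPM : P ≤ M := hPE.trans hE.1
  have hRM : R ≤ M := hRE.trans hE.1
  -- the maximal subgroup `H`
  have hP1 : P ≠ ⊥ := by
    intro e
    have h1 := hP
    rw [e, Subgroup.card_bot] at h1
    exact hpp.one_lt.ne h1
  have hPtop : P ≠ ⊤ := fun h => hM.1 (top_le_iff.mp (h ▸ hPM))
  obtain ⟨H, hH, hNP⟩ := uq_exists_coatom_ge (normalizer_ne_top_of_simple hP1 hPtop)
  have hHM : H ≠ M := by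
    rintro rfl
    exact (Cfsg.Agent.S1409.result hG H hH p hp.2.1 P hP hNP).1.2 hp.2.2.2.2
  -- `R` acts coprimely on `K = C_{M_σ}(P)`
  have hKσ : sigmaCore M ⊓ centralizer (P : Set G) ≤ sigmaCore M := inf_le_left
  have hRK : R ≤ normalizer ((sigmaCore M ⊓ centralizer (P : Set G) : Subgroup G) : Set G) := by
    have h1 : R ≤ normalizer ((sigmaCore M : Subgroup G) : Set G) :=
      hRM.trans (le_normalizer_piCoreOf _ _)
    have h2 : R ≤ normalizer ((centralizer (P : Set G) : Subgroup G) : Set G) :=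
      hRP.trans le_normalizer
    exact (le_inf h1 h2).trans Subgroup.inf_normalizer_le_normalizer_inf
  have hRr : IsPGroup r R := IsPGroup.of_card (n := 1) (by rw [hR, pow_one])
  have hR1 : R ≠ ⊥ := by
    intro e
    have h1 := hR
    rw [e, Subgroup.card_bot] at h1
    exact hr.one_lt.ne h1
  have hrσ : r ∉ sigma M := by
    intro hrσ
    have h1 : R ≤ sigmaCore M := bg12_le_sigmaCore hG hU hM hr hrσ hRM hRr
    have h2 : R ≤ E ⊓ sigmaCore M := le_inf hRE h1
    rw [hE.2.2.1] at h2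
    exact hR1 (le_bot_iff.mp h2)
  have hrK : ¬ r ∣ Nat.card ↥(sigmaCore M ⊓ centralizer (P : Set G)) := fun h =>
    hrσ ((bg10_sigma_hall hG hU hM).1.2.1 r hr (h.trans (Subgroup.card_dvd_of_le hKσ)))
  have hcop : (Nat.card R).Coprime (Nat.card ↥(sigmaCore M ⊓ centralizer (P : Set G))) := by
    rw [hR]
    exact (Nat.Prime.coprime_iff_not_dvd hr).mpr hrK
  have hKtop : sigmaCore M ⊓ centralizer (P : Set G) ≠ ⊤ :=
    fun h => hM.1 (top_le_iff.mp (h ▸ (hKσ.trans hKM)))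
  have hsolv : Group.IsSolvable ↥R ∨
      Group.IsSolvable ↥(sigmaCore M ⊓ centralizer (P : Set G)) :=
    Or.inr (uq_isSolvable hG hKtop)
  -- an `R`-invariant Sylow subgroup not centralized by `R`
  have hex : ∃ q : ℕ, q.Prime ∧ ∃ S ∈ sylowSet q (sigmaCore M ⊓ centralizer (P : Set G)),
      R ≤ normalizer (S : Set G) ∧ ¬ S ≤ centralizer (R : Set G) := by
    by_contra hcon
    push Not at hcon
    apply hne
    apply bg11_le_of_sylows
    intro ℓ hℓ
    haveI : Fact ℓ.Prime := ⟨hℓ⟩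
    obtain ⟨S, hS, hRS⟩ := exists_invariant_sylow hRK hcop hsolv ℓ
    exact ⟨S, hS, hcon ℓ hℓ S hS hRS⟩
  obtain ⟨q, hq, S, hS, hRS, hSR⟩ := hex
  haveI : Fact q.Prime := ⟨hq⟩
  have hSsyl : IsSylowOf q S (sigmaCore M ⊓ centralizer (P : Set G)) :=
    bg10_isSylowOf_of_sylowSet le_rfl
      (by rw [Subgroup.relIndex_self]; exact fun h => hq.ne_one (Nat.dvd_one.mp h)) hS
  have hSK : S ≤ sigmaCore M ⊓ centralizer (P : Set G) := hS.1
  have hSM : S ≤ M := (hSK.trans hKσ).trans hKM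
  have hSH : S ≤ H :=
    (hSK.trans inf_le_right).trans ((Subgroup.centralizer_le_normalizer _).trans hNP)
  have hSq : IsPGroup q S := isPGroup_of_mem_sylowSet hS
  -- `S` is abelian: it lies in `M` and in `H`
  have hScomm : IsMulCommutative ↥S := by
    by_contra hna
    obtain ⟨L, -, huniq⟩ := Cfsg.Agent.S1422.result hG q S hSq hna
    have h1 := huniq M ⟨hM, hSM⟩
    have h2 := huniq H ⟨hH, hSH⟩
    exact hHM (h2.trans h1.symm)
  have hcomm : ∀ x ∈ S, ∀ y ∈ S, x * y = y * x := by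
    intro x hx y hy
    exact congrArg Subtype.val (isMulCommutative_iff.mp hScomm ⟨x, hx⟩ ⟨y, hy⟩)
  have hcopS : (Nat.card R).Coprime (Nat.card S) :=
    Nat.Coprime.coprime_dvd_right (Subgroup.card_dvd_of_le hSK) hcop
  have h5 : (⁅S, R⁆ : Subgroup G) ⊓ centralizer (R : Set G) = ⊥ :=
    commutator_inf_centralizer_eq_bot_of_comm hRS hcopS hcomm
  have h3 : (⁅S, R⁆ : Subgroup G) ≤ S := by
    rw [Subgroup.commutator_le]
    intro s hs x hx
    have h1 : x * s⁻¹ * x⁻¹ ∈ S := (mem_normalizer_iff.mp (hRS hx) s⁻¹).mp (S.inv_mem hs)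
    have h2 : ⁅s, x⁆ = s * (x * s⁻¹ * x⁻¹) := by rw [commutatorElement_def]; group
    rw [h2]
    exact S.mul_mem hs h1
  have h2 : (⁅S, R⁆ : Subgroup G) ≠ ⊥ := by
    intro h0
    apply hSR
    intro s hs
    rw [mem_centralizer_iff]
    intro x hx
    have h6 : ⁅s, x⁆ ∈ (⁅S, R⁆ : Subgroup G) := Subgroup.commutator_mem_commutator hs hx
    rw [h0, Subgroup.mem_bot, commutatorElement_eq_one_iff_commute] at h6
    exact h6.eq.symm
  have h4 : R ≤ normalizer ((⁅S, R⁆ : Subgroup G) : Set G) :=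
    Cfsg.Agent.Helper24.bg1217_normalizer_commutator hRS le_normalizer
  exact ⟨H, S, q, hH, hNP, hq, hSsyl, hRS, h2, h3, h4, h5⟩

end Cfsg.Agent.Helper62
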