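import Cfsg.Agent.Helper62.BG51B
import Cfsg.Agent.Helper24.BG13V
import Cfsg.Agent.S1378

/-!
# S1351 part (A), step 4 of the core (B&G 13.10, Theorem (i))

For a `τ₃`-nonregular datum `(M, E, P, p)`, a maximal subgroup `H` over `N_G(P)` and a subgroup
`R ≤ E` of prime order `r ∈ τ₁(M)` which does not centralize `K := C_{M_σ}(P)`:
there is `X ≤ K` of prime order `u ∈ σ(M) ∩ τ₃(H)`, normalized by `R`, on which `R` acts
fixed-point-freely, with `N_G(X) ≤ M`.
-/

set_option autoImplicit false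

namespace Cfsg.Agent.Helper62

open Cfsg Subgroup

open scoped commutatorElement

universe u

variable {G : Type u} [Group G] [Finite G]

/-- by-products for a maximal subgroup `H` over `N_G(P)`. -/
theorem bg13i_over (hG : IsMinSimpleOddOrder G) {M E P H : Subgroup G} {p : ℕ}
    (h : T3NR M E P p) (hH : IsCoatom H) (hNH : normalizer (P : Set G) ≤ H) :
    p ∈ sigma H ∧ P ≤ sigmaCore H ∧ H ≠ M ∧
    (∀ g : G, H ≠ M.map (MulAut.conj g).toMonoidHom) ∧ E ≤ H ∧
    sigmaCore M ⊓ centralizer (P : Set G) ≤ H := by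
  have hU : Cfsg.Agent.Helper22.BGUniq G :=
    fun K hK h1 h2 => Cfsg.Agent.S1403.result hG K hK h1 h2
  obtain ⟨hEP, -⟩ := bg51_base hG h
  obtain ⟨hM, hE, hp, hPE, hP, hne⟩ := h
  have hpp : p.Prime := hp.1
  have hpσ : p ∉ sigma M := hp.2.1
  have hp1 : PRankLE p 1 ↥M := hp.2.2.2
  have hEM : E ≤ M := hE.1
  have hPM : P ≤ M := hPE.trans hEM
  have hpH : p ∈ sigma H :=
    Cfsg.Agent.Helper24.bg13u_over_sigma hG hM hpp hpσ hp1 hPM hP hne hH hNH
  obtain ⟨hnc, -⟩ := Cfsg.Agent.Helper24.bg13u_nc_over hG hpp hpσ hp1 hP hH hNH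
  have hPH : P ≤ H := Subgroup.le_normalizer.trans hNH
  have hPp : IsPGroup p P := IsPGroup.of_card (n := 1) (by rw [hP, pow_one])
  refine ⟨hpH, Cfsg.Agent.Helper22.bg12_le_sigmaCore hG hU hH hpp hpH hPH hPp, ?_, hnc,
    hEP.trans hNH, inf_le_right.trans ((Subgroup.centralizer_le_normalizer _).trans hNH)⟩
  intro e
  apply hnc 1
  rw [e]
  ext x
  simp

/-- **Step 4** of Theorem (i). -/
theorem bg13i_step4 (hG : IsMinSimpleOddOrder G) {M E P R H : Subgroup G} {p r : ℕ}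
    (h : T3NR M E P p) (hr : r ∈ tau1 M) (hRE : R ≤ E) (hR : Nat.card R = r)
    (hmv : ¬ sigmaCore M ⊓ centralizer (P : Set G) ≤ centralizer (R : Set G))
    (hH : IsCoatom H) (hNH : normalizer (P : Set G) ≤ H) :
    ∃ (X : Subgroup G) (u : ℕ), u ∈ sigma M ∧ u ∈ tau3 H ∧ Nat.card X = u ∧
      X ≤ sigmaCore M ⊓ centralizer (P : Set G) ∧ R ≤ normalizer (X : Set G) ∧
      X ⊓ centralizer (R : Set G) = ⊥ ∧ normalizer (X : Set G) ≤ M := by
  have hU : Cfsg.Agent.Helper22.BGUniq G :=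
    fun K hK h1 h2 => Cfsg.Agent.S1403.result hG K hK h1 h2
  obtain ⟨hpH, hPσH, hHM, hnc, hEH, hKH⟩ := bg13i_over hG h hH hNH
  obtain ⟨hEP, -⟩ := bg51_base hG h
  obtain ⟨hM, hE, hp, hPE, hP, hne⟩ := h
  have hpp : p.Prime := hp.1
  have hpσ : p ∉ sigma M := hp.2.1
  have hp1 : PRankLE p 1 ↥M := hp.2.2.2
  have hEM : E ≤ M := hE.1
  have hPM : P ≤ M := hPE.trans hEM
  have hPH : P ≤ H := Subgroup.le_normalizer.trans hNH
  have hrp : r.Prime := hr.1
  have hrσ : r ∉ sigma M := hr.2.1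
  have hσM : sigmaCore M ≤ M := Cfsg.Agent.Helper23.piCoreOf_le _ _
  have hSn : M ≤ normalizer (sigmaCore M : Set G) :=
    Cfsg.Agent.Helper23.le_normalizer_piCoreOf (sigma M) M
  have hσσ : ∀ q : ℕ, q.Prime → q ∣ Nat.card (sigmaCore M) → q ∈ sigma M := fun q hq hqd =>
    Cfsg.Agent.Helper23.mem_of_dvd_card_piCoreOf (sigma M) M hq hqd
  have hRK : R ≤ normalizer ((sigmaCore M ⊓ centralizer (P : Set G) : Subgroup G) : Set G) :=
    fun e he => Cfsg.Agent.Helper22.bg14_mem_normalizer_inf (hSn (hEM (hRE he)))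
      (bg51_normalizer_centralizer (hEP (hRE he)))
  have hcop : (Nat.card R).Coprime
      (Nat.card (sigmaCore M ⊓ centralizer (P : Set G) : Subgroup G)) := by
    rw [hR]
    exact (Nat.Prime.coprime_iff_not_dvd hrp).mpr
      (fun hd => hrσ (hσσ r hrp (hd.trans (Subgroup.card_dvd_of_le inf_le_left))))
  have hKsolv : Group.IsSolvable ↥(sigmaCore M ⊓ centralizer (P : Set G) : Subgroup G) :=
    hG.2.2.2 _ (fun e => hM.1 (top_le_iff.mp (e ▸ (inf_le_left.trans hσM))))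
  -- an `R`-invariant Sylow subgroup of `K` not centralized by `R`
  have hex : ∃ (u : ℕ) (Ku : Subgroup G), u.Prime ∧
      Ku ≤ sigmaCore M ⊓ centralizer (P : Set G) ∧ IsPGroup u Ku ∧
      R ≤ normalizer (Ku : Set G) ∧ ¬ Ku ≤ centralizer (R : Set G) := by
    by_contra hcon
    push Not at hcon
    apply hmv
    have hdvd : Nat.card (sigmaCore M ⊓ centralizer (P : Set G) : Subgroup G) ∣
        Nat.card ((sigmaCore M ⊓ centralizer (P : Set G)) ⊓ centralizer (R : Set G) :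
          Subgroup G) := by
      rw [← Nat.factorization_prime_le_iff_dvd Nat.card_pos.ne' Nat.card_pos.ne']
      intro u hu
      haveI := Fact.mk hu
      obtain ⟨Ku, hKu, hRKu⟩ :=
        Cfsg.Agent.Helper35.exists_invariant_sylow hRK hcop (Or.inr hKsolv) u
      have h1 : Ku ≤ (sigmaCore M ⊓ centralizer (P : Set G)) ⊓ centralizer (R : Set G) :=
        le_inf hKu.1
          (hcon u Ku hu hKu.1 (Cfsg.Agent.Helper35.isPGroup_of_mem_sylowSet hKu) hRKu)
      have h2 : u ^ (Nat.card (sigmaCore M ⊓ centralizer (P : Set G) : Subgroup G)).factorization u ∣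
          Nat.card ((sigmaCore M ⊓ centralizer (P : Set G)) ⊓ centralizer (R : Set G) :
            Subgroup G) := by
        rw [← hKu.2]
        exact Subgroup.card_dvd_of_le h1
      exact (hu.pow_dvd_iff_le_factorization Nat.card_pos.ne').mp h2
    have heq : (sigmaCore M ⊓ centralizer (P : Set G)) ⊓ centralizer (R : Set G) =
        sigmaCore M ⊓ centralizer (P : Set G) :=
      Subgroup.eq_of_le_of_card_ge inf_le_left (Nat.le_of_dvd Nat.card_pos hdvd)
    rw [← heq]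
    exact inf_le_right
  obtain ⟨u, Ku, hu, hKuK, hKuu, hRKu, hKuR⟩ := hex
  haveI := Fact.mk hu
  have hKu1 : Ku ≠ ⊥ := fun e => hKuR (e ▸ bot_le)
  obtain ⟨a, haKu, hau⟩ := Cfsg.Agent.Helper70.bg51cyc_exists_order hu hKuu le_rfl hKu1
  have hXc : Nat.card (zpowers a) = u := by rw [Nat.card_zpowers, hau]
  have hXKu : zpowers a ≤ Ku := Subgroup.zpowers_le.mpr haKu
  have hXK : zpowers a ≤ sigmaCore M ⊓ centralizer (P : Set G) := hXKu.trans hKuK
  have hudG : u ∣ Nat.card (zpowers a) := by rw [hXc]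
  have huσ : u ∈ sigma M :=
    hσσ u hu (hudG.trans (Subgroup.card_dvd_of_le (hXK.trans inf_le_left)))
  have huH : u ∉ sigma H := fun hh => by
    obtain ⟨g, hg⟩ := (Cfsg.Agent.S1378.result hG).2 M H hM hH ⟨u, huσ, hh⟩
    exact hnc g hg
  have hP1 : P ≠ ⊥ := by
    intro e
    rw [e, Subgroup.card_bot] at hP
    exact hpp.one_lt.ne hP
  -- `u ∉ τ₂(H)`
  have hu2 : u ∉ tau2 H := by
    refine Cfsg.Agent.Helper24.bg13u_star_not_tau2 hG hM hH hHM huσ huH
      (hXK.trans (inf_le_left.trans hσM)) (hXK.trans hKH) hXc ?_ ?_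
    · intro e
      apply hP1
      rw [eq_bot_iff, ← e]
      refine le_inf hPσH ?_
      intro x hx
      rw [Subgroup.mem_centralizer_iff]
      intro y hy
      have h1 := Subgroup.mem_centralizer_iff.mp (hXK hy).2 x hx
      exact h1.symm
    · intro e
      apply hP1
      rw [eq_bot_iff, ← e]
      exact le_inf (le_inf hPM hPH) hPσH
  have hu2' : PRankLE u 2 ↥H :=
    Cfsg.Agent.Helper22.bg10_pRank_of_not_alpha H u hu
      (fun h => huH (Cfsg.Agent.Helper22.bg10_alpha_sub_sigma hG hU hH h))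
  have hu1 : PRankLE u 1 ↥H := by
    by_contra h
    exact hu2 ⟨hu, huH, hu2', h⟩
  -- `u ∣ |H'|`
  have hRH : R ≤ H := hRE.trans hEH
  have hudvd : u ∣ Nat.card ↥⁅H, H⁆ := by
    have hne2 : ∃ k ∈ Ku, ∃ e ∈ R, ⁅k, e⁆ ≠ 1 := by
      by_contra hcon
      push Not at hcon
      apply hKuR
      intro k hk
      rw [Subgroup.mem_centralizer_iff]
      intro e he
      have h1 := hcon k hk e he
      rw [commutatorElement_eq_one_iff_mul_comm] at h1
      exact h1.symm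
    obtain ⟨k, hk, e, he, hke⟩ := hne2
    have hc1 : ⁅k, e⁆ ∈ Ku := by
      have h1 : e * k⁻¹ * e⁻¹ ∈ Ku := (Subgroup.mem_normalizer_iff.mp (hRKu he) k⁻¹).mp
        (Ku.inv_mem hk)
      have h2 : ⁅k, e⁆ = k * (e * k⁻¹ * e⁻¹) := by
        rw [commutatorElement_def]; group
      rw [h2]
      exact Ku.mul_mem hk h1
    have hc2 : ⁅k, e⁆ ∈ ⁅H, H⁆ :=
      Subgroup.commutator_mem_commutator (hKH (hKuK hk)) (hRH he)
    obtain ⟨j, hj⟩ := (IsPGroup.iff_orderOf.mp hKuu) ⟨⁅k, e⁆, hc1⟩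
    rw [Subgroup.orderOf_mk] at hj
    have hj0 : j ≠ 0 := by
      rintro rfl
      rw [pow_zero] at hj
      exact hke (orderOf_eq_one_iff.mp hj)
    have h3 : u ∣ orderOf ⁅k, e⁆ := by rw [hj]; exact dvd_pow_self u hj0
    exact h3.trans (Subgroup.orderOf_dvd_natCard _ hc2)
  have hu3 : u ∈ tau3 H := ⟨hu, huH, hudvd, hu1⟩
  have hodd : u ≠ 2 := by
    rintro rfl
    have h1 : 2 ∣ Nat.card G := hudG.trans (Subgroup.card_subgroup_dvd_card _)
    exact (Nat.not_even_iff_odd.mpr hG.1) (even_iff_two_dvd.mpr h1)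
  have hKuc : IsCyclic ↥Ku :=
    Cfsg.Agent.Helper49.isCyclic_of_pRankLE_one hodd hKuu
      (Cfsg.Agent.Helper23.pRankLE_of_le (hKuK.trans hKH) hu1)
  have hur : u ≠ r := fun e => hrσ (e ▸ huσ)
  have hfpf : Ku ⊓ centralizer (R : Set G) = ⊥ :=
    Cfsg.Agent.Helper70.bg51_fpf_cyclic hu hKuu hKuc hrp hR hur hRKu
      (fun hh => hKuR (Subgroup.le_centralizer_iff.mp hh))
  refine ⟨zpowers a, u, huσ, hu3, hXc, hXK,
    hRKu.trans (Cfsg.Agent.Helper72.b12c_normalizer_cyclic_le hKuc hXKu), ?_,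
    Cfsg.Agent.Helper24.bg13u_star_norm_le hG hM hpp hpσ hp1 hPM hP hu hXc hXK⟩
  rw [eq_bot_iff, ← hfpf]
  exact inf_le_inf_right _ hXKu

end Cfsg.Agent.Helper62
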