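import Cfsg.Agent.Helper62.BG51B0
import Cfsg.Agent.Helper54.BG13CL
import Cfsg.Agent.Helper2.BG13Defs
import Cfsg.Agent.Helper72.BG14ZT1
import Cfsg.Agent.Helper72.BG12Cor2
import Cfsg.Agent.Helper35.CoprimeSylow
import Cfsg.Agent.S1414
import Cfsg.Agent.S1426
import Cfsg.Agent.S1428
import Cfsg.Agent.Helper70.BG51CYC
import Cfsg.Agent.Helper70.BG51NPC

/-!
# S1351, part (B): full prime action for a `τ₃`-nonregular datum, given Theorem (i)
-/

set_option autoImplicit false

namespace Cfsg.Agent.Helper62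

open Cfsg Subgroup

universe u

variable {G : Type u} [Group G] [Finite G]


/-- **(B)**: given Theorem (i) (`C_{M_σ}(P)` is centralized by `E`), a `τ₃`-nonregular datum has
`σ(M) = β(M)` on `M_σ`, `Z := C_{M_σ}(P) ≤ M_σ'`, the `τ₁`-subgroups of prime order of `E` are
central in `E`, `C_{M_σ}(y) = Z` for every `y ∈ E^#` and every subgroup of prime order of `E`
is normal in `E`. -/
theorem bg51_star (hG : IsMinSimpleOddOrder G) {M E P : Subgroup G} {p : ℕ} (h : T3NR M E P p)
    (hA : sigmaCore M ⊓ centralizer (P : Set G) ≤ centralizer (E : Set G)) :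
    (∀ q : ℕ, q.Prime → q ∣ Nat.card (sigmaCore M) → q ∈ beta M) ∧
    sigmaCore M ⊓ centralizer (P : Set G) ≤ ⁅sigmaCore M, sigmaCore M⁆ ∧
    (∀ R : Subgroup G, R ≤ E → Nat.card R ∈ tau1 M → R ≤ centralizer (E : Set G)) ∧
    (∀ y ∈ E, y ≠ 1 →
      sigmaCore M ⊓ centralizer ({y} : Set G) = sigmaCore M ⊓ centralizer (P : Set G)) ∧
    (∀ Y : Subgroup G, Y ≤ E → (Nat.card Y).Prime → E ≤ normalizer (Y : Set G)) := by
  have hU : Cfsg.Agent.Helper22.BGUniq G :=
    fun K hK h1 h2 => Cfsg.Agent.S1403.result hG K hK h1 h2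
  obtain ⟨hEP, hPE', hτ2, hKE', hHall, hcyc, h13, hP'⟩ := bg51_base hG h
  obtain ⟨hM, hE, hp, hPE, hP, hne⟩ := h
  have hEM : E ≤ M := hE.1
  have hpp : p.Prime := hp.1
  have hpσ : p ∉ sigma M := hp.2.1
  have hσM : sigmaCore M ≤ M := Cfsg.Agent.Helper23.piCoreOf_le _ _
  have hSn : M ≤ normalizer (sigmaCore M : Set G) :=
    Cfsg.Agent.Helper23.le_normalizer_piCoreOf (sigma M) M
  have hσσ : ∀ q : ℕ, q.Prime → q ∣ Nat.card (sigmaCore M) → q ∈ sigma M := fun q hq hqd =>
    Cfsg.Agent.Helper23.mem_of_dvd_card_piCoreOf (sigma M) M hq hqd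
  have hpow : ∀ (x : G) (q k : ℕ), x ^ q ^ k = 1 → IsPGroup q (zpowers x) := by
    intro x q k hxq
    rintro ⟨w, hw⟩
    obtain ⟨t, rfl⟩ := Subgroup.mem_zpowers_iff.mp hw
    refine ⟨k, Subtype.ext ?_⟩
    simp only [Subgroup.coe_pow, Subgroup.coe_one]
    rw [← zpow_natCast, ← zpow_mul, mul_comm, zpow_mul, zpow_natCast, hxq, one_zpow]
  -- `Z ≤ M_σ'`
  have hZ' : sigmaCore M ⊓ centralizer (P : Set G) ≤ ⁅sigmaCore M, sigmaCore M⁆ :=
    (le_inf inf_le_left hA).trans (Cfsg.Agent.S1426.result hG M hM E hE).1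
  -- `σ = β` on `M_σ`
  have hβ : ∀ q : ℕ, q.Prime → q ∣ Nat.card (sigmaCore M) → q ∈ beta M := by
    intro q hq hqσ
    by_contra hqβ
    haveI := Fact.mk hq
    obtain ⟨hnpcM, hnpcσ, -⟩ := (Cfsg.Agent.S1414.result hG M hM).2.2.2.2 q hq
      (hqσ.trans (Subgroup.card_dvd_of_le hσM)) hqβ
    have hPM : P ≤ M := hPE.trans hEM
    have hpq : ¬ p ∣ Nat.card (sigmaCore M) := fun hd => hpσ (hσσ p hpp hd)
    have hcop : (Nat.card P).Coprime (Nat.card (sigmaCore M)) := by
      rw [hP]; exact (Nat.Prime.coprime_iff_not_dvd hpp).mpr hpq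
    have hσsolv : Group.IsSolvable ↥(sigmaCore M) :=
      hG.2.2.2 _ (fun e => hM.1 (top_le_iff.mp (e ▸ hσM)))
    obtain ⟨T, hT, hPT⟩ := Cfsg.Agent.Helper35.exists_invariant_sylow (hPM.trans hSn) hcop
      (Or.inr hσsolv) q
    have hTq : IsPGroup q T := Cfsg.Agent.Helper35.isPGroup_of_mem_sylowSet hT
    have hne_pq : p ≠ q := fun e => hpσ (e ▸ hσσ q hq hqσ)
    have hcent : ∀ e ∈ P, ∀ y ∈ T, e * y = y * e := by
      intro e he
      have h1 : (⟨e, he⟩ : ↥P) ^ Nat.card P = 1 := pow_card_eq_one'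
      have h2 : e ^ p = 1 := by
        have := congrArg Subtype.val h1
        rwa [Subgroup.coe_pow, Subgroup.coe_one, hP] at this
      exact Cfsg.Agent.Helper72.zt1_cent hq hnpcM (Subgroup.commutator_mono hEM hEM (hPE' he)) h2
        ((Nat.coprime_primes hpp hq).mpr hne_pq) (hT.1.trans hσM) hTq (hPT he)
    have hTK : T ≤ sigmaCore M ⊓ centralizer (P : Set G) := fun y hy =>
      ⟨hT.1 hy, Subgroup.mem_centralizer_iff.mpr (fun e he => hcent e he y hy)⟩
    have hidx : ¬ q ∣ T.relIndex (sigmaCore M) := by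
      have h1 : Nat.card T * T.relIndex (sigmaCore M) = Nat.card (sigmaCore M) := by
        have := Subgroup.relIndex_mul_relIndex (⊥ : Subgroup G) T (sigmaCore M) bot_le hT.1
        rwa [Subgroup.relIndex_bot_left, Subgroup.relIndex_bot_left] at this
      rw [hT.2] at h1
      have h2 : T.relIndex (sigmaCore M) =
          Nat.card (sigmaCore M) / q ^ (Nat.card (sigmaCore M)).factorization q :=
        (Nat.div_eq_of_eq_mul_right (pow_pos hq.pos _) h1.symm).symm
      rw [h2]
      exact Nat.not_dvd_ordCompl hq Nat.card_pos.ne'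
    have hTbot : T = ⊥ := Cfsg.Agent.Helper70.bg51_npc_sylow hnpcσ hT.1 hTq hidx (hTK.trans hZ')
    have hTc : Nat.card T = 1 := by rw [hTbot]; exact Subgroup.card_bot
    rw [hT.2] at hTc
    have hf : 0 < (Nat.card (sigmaCore M)).factorization q :=
      hq.factorization_pos_of_dvd Nat.card_pos.ne' hqσ
    have : 1 < q ^ (Nat.card (sigmaCore M)).factorization q := Nat.one_lt_pow hf.ne' hq.one_lt
    omega
  -- `Z ≤ M_α`
  have hKα : sigmaCore M ⊓ centralizer (P : Set G) ≤ alphaCore M := by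
    obtain ⟨hαhall, -, -⟩ := Cfsg.Agent.Helper22.bg10_alpha_hall hG hU hM
    refine Cfsg.Agent.Helper22.bg12_le_of_coprime_relIndex hαhall.1 (inf_le_left.trans hσM)
      ((inf_le_left.trans hσM).trans (Cfsg.Agent.Helper23.le_normalizer_piCoreOf (alpha M) M)) ?_
    by_contra hnc
    obtain ⟨q, hq, h1, h2⟩ := Nat.Prime.not_coprime_iff_dvd.mp hnc
    have hqβ := hβ q hq (h1.trans (Subgroup.card_dvd_of_le inf_le_left))
    exact hαhall.2.2 q hq hqβ.1 h2
  -- Case I is impossible
  have hB2 : ∀ R : Subgroup G, R ≤ E → Nat.card R ∈ tau1 M →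
      R ≤ centralizer ((⁅E, E⁆ : Subgroup G) : Set G) := by
    intro R hRE hr1
    by_contra hnot
    have hr : (Nat.card R).Prime := hr1.1
    have hex : ∃ x ∈ ⁅E, E⁆, ∃ (q k : ℕ), q.Prime ∧ x ^ q ^ k = 1 ∧
        x ∉ centralizer (R : Set G) := by
      by_contra hcon
      apply hnot
      rw [Subgroup.le_centralizer_iff]
      apply bg51_le_of_prime_pow
      intro x hx q k hq hxq
      by_contra hxR
      exact hcon ⟨x, hx, q, k, hq, hxq, hxR⟩
    obtain ⟨x, hx, q, k, hq, hxq, hxR⟩ := hex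
    haveI := Fact.mk hq
    have hxE : x ∈ E := bg51_comm_le E hx
    have hx1 : x ≠ 1 := fun e => hxR (e ▸ Subgroup.one_mem _)
    have hQq : IsPGroup q (zpowers x) := hpow x q k hxq
    have hQE' : zpowers x ≤ ⁅E, E⁆ := Subgroup.zpowers_le.mpr hx
    have hQE : zpowers x ≤ E := hQE'.trans (bg51_comm_le E)
    have hqx : q ∣ orderOf x := by
      have h1 : orderOf x ∣ q ^ k := orderOf_dvd_of_pow_eq_one hxq
      obtain ⟨j, -, hj⟩ := (Nat.dvd_prime_pow hq).mp h1
      have hj0 : j ≠ 0 := by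
        rintro rfl
        rw [pow_zero] at hj
        exact hx1 (orderOf_eq_one_iff.mp hj)
      rw [hj]; exact dvd_pow_self q hj0
    have hq3 : q ∈ tau3 M := hHall.2.1 q hq (hqx.trans (Subgroup.orderOf_dvd_natCard _ hx))
    have hEQ : E ≤ normalizer ((zpowers x : Subgroup G) : Set G) :=
      (Cfsg.Agent.Helper98.bg14_normal_in_compl hG hM hE hq3 hQE hQq).1
    have hQc : IsCyclic (zpowers x) := inferInstance
    have hqr : q ≠ Nat.card R := by
      intro e
      rw [← e] at hr1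
      exact hr1.2.2.2.1 hq3.2.2.1
    have hRQ : R ≤ normalizer ((zpowers x : Subgroup G) : Set G) := hRE.trans hEQ
    have hRnc : ¬ R ≤ centralizer ((zpowers x : Subgroup G) : Set G) := by
      intro hc
      apply hxR
      rw [Subgroup.mem_centralizer_iff]
      intro y hy
      exact ((Subgroup.mem_centralizer_iff.mp (hc hy)) x (Subgroup.mem_zpowers x)).symm
    have hfpf : zpowers x ⊓ centralizer (R : Set G) = ⊥ :=
      Cfsg.Agent.Helper70.bg51_fpf_cyclic hq hQq hQc hr rfl hqr hRQ hRnc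
    have hqα : q ∉ alpha M := fun hα =>
      hq3.2.1 (Cfsg.Agent.Helper22.bg10_alpha_sub_sigma hG hU hM hα)
    have hQ1 : zpowers x ≠ ⊥ := by
      intro e
      have := Subgroup.mem_zpowers x
      rw [e, Subgroup.mem_bot] at this
      exact hx1 this
    have hnu : ¬ (normalizer ((zpowers x : Subgroup G) : Set G) ≤ M ∧
        ∀ L : Subgroup G, IsCoatom L → normalizer ((zpowers x : Subgroup G) : Set G) ≤ L →
          L = M) := by
      rintro ⟨-, huniq⟩
      obtain ⟨y, hyQ, hyo⟩ := Cfsg.Agent.Helper22.bg14_exists_orderOf hQq hQ1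
      obtain ⟨H, hH, hNH, hnc⟩ := Cfsg.Agent.Helper98.bg14_exists_coatom hG hM hq3.2.1
        hq3.2.2.2 (Q₁ := zpowers y) (by rw [Nat.card_zpowers, hyo])
      have hle : normalizer ((zpowers x : Subgroup G) : Set G) ≤ H :=
        (Cfsg.Agent.Helper72.b12c_normalizer_cyclic_le hQc (Subgroup.zpowers_le.mpr hyQ)).trans
          hNH
      have hHM := huniq H hH hle
      apply hnc 1
      rw [hHM]
      ext z
      simp
    have hcl := Cfsg.Agent.Helper54.bg13_claim hG M R (zpowers x) (Nat.card R) q hM hr1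
      (hRE.trans hEM) rfl hq hqα hqr hQq hQ1 (hQE.trans hEM) hRQ hfpf hnu
    apply hne
    rw [eq_bot_iff, ← hcl]
    exact le_inf (le_inf hKα (hA.trans (Subgroup.centralizer_le (by exact_mod_cast hQE))))
      (hA.trans (Subgroup.centralizer_le (by exact_mod_cast hRE)))
  -- the `τ₁`-subgroups of prime order are central
  have hB3 : ∀ R : Subgroup G, R ≤ E → Nat.card R ∈ tau1 M → R ≤ centralizer (E : Set G) := by
    intro R hRE hr1 x hx
    rw [Subgroup.mem_centralizer_iff]
    intro e he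
    have hr : (Nat.card R).Prime := hr1.1
    have hcE' : e * x * e⁻¹ * x⁻¹ ∈ ⁅E, E⁆ := by
      have := Subgroup.commutator_mem_commutator he (hRE hx)
      rwa [commutatorElement_def] at this
    have hxc : (e * x * e⁻¹ * x⁻¹) * x = x * (e * x * e⁻¹ * x⁻¹) :=
      Subgroup.mem_centralizer_iff.mp (hB2 R hRE hr1 hx) _ hcE'
    have hxr : x ^ Nat.card R = 1 := by
      have h1 : (⟨x, hx⟩ : ↥R) ^ Nat.card R = 1 := pow_card_eq_one'
      have := congrArg Subtype.val h1
      rwa [Subgroup.coe_pow, Subgroup.coe_one] at this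
    have hcr : (e * x * e⁻¹ * x⁻¹) ^ Nat.card R = 1 := by
      have h1 : (e * x * e⁻¹ * x⁻¹ * x) ^ Nat.card R =
          (e * x * e⁻¹ * x⁻¹) ^ Nat.card R * x ^ Nat.card R :=
        Commute.mul_pow (show Commute (e * x * e⁻¹ * x⁻¹) x from hxc) _
      have h2 : e * x * e⁻¹ * x⁻¹ * x = e * x * e⁻¹ := by group
      rw [h2, hxr, mul_one, conj_pow, hxr] at h1
      rw [← h1]
      group
    have hc1 : e * x * e⁻¹ * x⁻¹ = 1 := by
      have hd1 : orderOf (e * x * e⁻¹ * x⁻¹) ∣ Nat.card R := orderOf_dvd_of_pow_eq_one hcr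
      have hd2 : orderOf (e * x * e⁻¹ * x⁻¹) ∣ Nat.card ↥⁅E, E⁆ :=
        Subgroup.orderOf_dvd_natCard _ hcE'
      have hcop : (Nat.card R).Coprime (Nat.card ↥⁅E, E⁆) := by
        rw [Nat.Prime.coprime_iff_not_dvd hr]
        intro hd
        exact hr1.2.2.2.1 (hd.trans (Subgroup.card_dvd_of_le (Subgroup.commutator_mono hEM hEM)))
      have h3 := Nat.dvd_gcd hd1 hd2
      rw [Nat.Coprime] at hcop
      rw [hcop] at h3
      exact orderOf_eq_one_iff.mp (Nat.dvd_one.mp h3)
    calc e * x = (e * x * e⁻¹ * x⁻¹) * (x * e) := by group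
      _ = x * e := by rw [hc1, one_mul]
  -- full prime action
  have hB4 : ∀ y ∈ E, y ≠ 1 →
      sigmaCore M ⊓ centralizer ({y} : Set G) = sigmaCore M ⊓ centralizer (P : Set G) := by
    intro y hyE hy1
    apply le_antisymm
    · have hn1 : orderOf y ≠ 1 := fun e => hy1 (orderOf_eq_one_iff.mp e)
      obtain ⟨s, hs, hsd⟩ := Nat.exists_prime_and_dvd hn1
      have hyo : orderOf (y ^ (orderOf y / s)) = s :=
        orderOf_pow_orderOf_div (orderOf_pos y).ne' hsd
      have hY : Nat.card (zpowers (y ^ (orderOf y / s))) = s := by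
        rw [Nat.card_zpowers]; exact hyo
      have hYE : zpowers (y ^ (orderOf y / s)) ≤ E :=
        Subgroup.zpowers_le.mpr (E.pow_mem hyE _)
      have hsE : s ∣ Nat.card E := hsd.trans (Subgroup.orderOf_dvd_natCard E hyE)
      have hstep : sigmaCore M ⊓ centralizer ({y} : Set G) ≤
          sigmaCore M ⊓ centralizer ((zpowers (y ^ (orderOf y / s)) : Subgroup G) : Set G) := by
        refine inf_le_inf_left _ ?_
        intro c hc
        rw [Subgroup.mem_centralizer_iff] at hc ⊢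
        intro z hz
        obtain ⟨t, rfl⟩ := Subgroup.mem_zpowers_iff.mp hz
        have h1 : y * c = c * y := hc y (Set.mem_singleton y)
        exact ((Commute.pow_left (show Commute y c from h1) _).zpow_left t).eq
      refine hstep.trans ?_
      rcases h13 s hs hsE with h1 | h3
      · have hYc := hB3 (zpowers (y ^ (orderOf y / s))) hYE (by rw [hY]; exact h1)
        have hPY : P ≤ E ⊓ centralizer ((zpowers (y ^ (orderOf y / s)) : Subgroup G) : Set G) := by
          refine le_inf hPE ?_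
          rw [Subgroup.le_centralizer_iff]
          exact hYc.trans (Subgroup.centralizer_le (by exact_mod_cast hPE))
        exact Cfsg.Agent.S1428.result hG M hM E hE s h1 (zpowers (y ^ (orderOf y / s))) hYE hY P
          hPY (by rw [hP]; exact hpp)
      · exact (hP' (zpowers (y ^ (orderOf y / s))) hYE (by rw [hY]; exact h3)).le
    · exact le_inf inf_le_left (hA.trans (Subgroup.centralizer_le (by simpa using hyE)))
  refine ⟨hβ, hZ', hB3, hB4, ?_⟩
  intro Y hYE hYp
  have hsE : Nat.card Y ∣ Nat.card E := Subgroup.card_dvd_of_le hYE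
  rcases h13 _ hYp hsE with h1 | h3
  · have h2 : E ≤ centralizer (Y : Set G) := Subgroup.le_centralizer_iff.mp (hB3 Y hYE h1)
    exact h2.trans (Subgroup.centralizer_le_normalizer _)
  · exact (Cfsg.Agent.Helper98.bg14_normal_in_compl hG hM hE h3 hYE
      (IsPGroup.of_card (n := 1) (by rw [pow_one]))).1

end Cfsg.Agent.Helper62
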