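import Cfsg.Prelude.Def_Transfer
import Cfsg.Prelude.Def_Solvable
import Cfsg.Agent.Helper63.N15Defs
import Cfsg.Agent.Helper1.PPrimeCore
import Cfsg.Agent.Helper10.PCore
import Cfsg.Agent.Helper22.SolvableCore

/-!
# CALL S4415 part B, piece p1a (Hall–Higman 1.2.3 in `S / O_{3'}(S)`)
-/

set_option autoImplicit false

namespace Cfsg.Agent.Helper62.N15

open Cfsg.Agent.Helper63.N15

variable {S : Type*} [Group S] [Finite S] {E : Type*} [AddCommGroup E] [Module (ZMod 3) E]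
  [Finite E]

/-- P1a. If `b` is central in a Sylow `3`-subgroup `P` of the solvable group `S` and normalizes a
`2`-subgroup `H`, then `[H, b] ≤ O_{3'}(S)`. -/
theorem p1a [Group.IsSolvable S] (P : Sylow 3 S) (b : S) (hbP : b ∈ (P : Subgroup S))
    (hbc : ∀ x ∈ (P : Subgroup S), x * b = b * x) (H : Subgroup S) (hH : IsPGroup 2 H)
    (hHb : ∀ h ∈ H, b * h * b⁻¹ ∈ H) :
    ∀ h ∈ H, b * h * b⁻¹ * h⁻¹ ∈ Cfsg.pPrimeCore 3 S := by
  haveI : Fact (Nat.Prime 3) := ⟨Nat.prime_three⟩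
  haveI hN : (Cfsg.pPrimeCore 3 S).Normal := Cfsg.Agent.Helper1.pPrimeCore_normal 3
  have hsurj := QuotientGroup.mk'_surjective (Cfsg.pPrimeCore 3 S)
  have hred : Cfsg.pPrimeCore 3 (S ⧸ Cfsg.pPrimeCore 3 S) = ⊥ :=
    Cfsg.Agent.Helper1.pPrimeCore_quotient_eq_bot 3
  have hcent := Cfsg.Agent.Helper22.centralizer_pCore_le_of_isSolvable
    (G := S ⧸ Cfsg.pPrimeCore 3 S) 3 hred
  have hb : QuotientGroup.mk' (Cfsg.pPrimeCore 3 S) b ∈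
      Subgroup.centralizer (Cfsg.pCore 3 (S ⧸ Cfsg.pPrimeCore 3 S) :
        Set (S ⧸ Cfsg.pPrimeCore 3 S)) := by
    rw [Subgroup.mem_centralizer_iff]
    intro y hy
    have h1 : y ∈ ((P.mapSurjective hsurj : Sylow 3 (S ⧸ Cfsg.pPrimeCore 3 S)) :
        Subgroup (S ⧸ Cfsg.pPrimeCore 3 S)) :=
      Cfsg.Agent.Helper10.pCore_le_sylow _ hy
    rw [Sylow.coe_mapSurjective] at h1
    obtain ⟨x, hx, rfl⟩ := Subgroup.mem_map.mp h1
    rw [← map_mul, ← map_mul, hbc x hx]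
  have hb' : QuotientGroup.mk' (Cfsg.pPrimeCore 3 S) b ∈
      Cfsg.pCore 3 (S ⧸ Cfsg.pPrimeCore 3 S) := hcent hb
  intro h hh
  have hn : (Cfsg.pCore 3 (S ⧸ Cfsg.pPrimeCore 3 S)).Normal :=
    Cfsg.Agent.Helper10.pCore_normal 3 _
  have hc1 : QuotientGroup.mk' (Cfsg.pPrimeCore 3 S) (b * h * b⁻¹ * h⁻¹) ∈
      Cfsg.pCore 3 (S ⧸ Cfsg.pPrimeCore 3 S) := by
    have e : QuotientGroup.mk' (Cfsg.pPrimeCore 3 S) (b * h * b⁻¹ * h⁻¹) =
        QuotientGroup.mk' (Cfsg.pPrimeCore 3 S) b *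
          (QuotientGroup.mk' (Cfsg.pPrimeCore 3 S) h *
            (QuotientGroup.mk' (Cfsg.pPrimeCore 3 S) b)⁻¹ *
            (QuotientGroup.mk' (Cfsg.pPrimeCore 3 S) h)⁻¹) := by
      simp only [map_mul, map_inv, mul_assoc]
    rw [e]
    exact Subgroup.mul_mem _ hb' (hn.conj_mem _ (Subgroup.inv_mem _ hb') _)
  have hc2 : b * h * b⁻¹ * h⁻¹ ∈ H := H.mul_mem (hHb h hh) (H.inv_mem hh)
  obtain ⟨k, hk⟩ := (Cfsg.Agent.Helper10.pCore_isPGroup 3 (S ⧸ Cfsg.pPrimeCore 3 S))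
    ⟨_, hc1⟩
  have hk' : (QuotientGroup.mk' (Cfsg.pPrimeCore 3 S) (b * h * b⁻¹ * h⁻¹)) ^ 3 ^ k = 1 := by
    have := congrArg Subtype.val hk
    simpa using this
  obtain ⟨j, hj⟩ := hH ⟨_, hc2⟩
  have hj' : (b * h * b⁻¹ * h⁻¹) ^ 2 ^ j = 1 := by
    have := congrArg Subtype.val hj
    simpa using this
  have hj'' : (QuotientGroup.mk' (Cfsg.pPrimeCore 3 S) (b * h * b⁻¹ * h⁻¹)) ^ 2 ^ j = 1 := by
    rw [← map_pow, hj', map_one]
  have ho1 := orderOf_dvd_of_pow_eq_one hk'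
  have ho2 := orderOf_dvd_of_pow_eq_one hj''
  have hcop : (3 ^ k).Coprime (2 ^ j) := Nat.Coprime.pow k j (by norm_num)
  have ho : orderOf (QuotientGroup.mk' (Cfsg.pPrimeCore 3 S) (b * h * b⁻¹ * h⁻¹)) = 1 :=
    Nat.eq_one_of_dvd_coprimes hcop ho1 ho2
  have h1 := orderOf_eq_one_iff.mp ho
  exact (QuotientGroup.eq_one_iff _).mp h1

end Cfsg.Agent.Helper62.N15
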