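/-
CALL P15 (helper62), row S1437: shared definitions.
`P15 M L Q K Z q`: the hypotheses of the pure "Frobenius module" theorem:
`M = L K` solvable of odd order, `L ⊴ M` not nilpotent, `Q ⊴ M` a Sylow `q`-subgroup of `L`,
`K ≠ 1` of order prime to `|L|` acting with prime action on `L`: `C_L(k) = Z` of order `q` for
every `1 ≠ k ∈ K`.
-/
import Cfsg.Prelude.Def_OddOrderLocal
import Mathlib.GroupTheory.Frattini

set_option autoImplicit false

namespace Cfsg.Agent.Helper62

open Cfsg Subgroup

universe u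

/-- Hypotheses of the pure theorem P15 (all subgroups live in the ambient group `G`). -/
structure P15 {G : Type u} [Group G] (M L Q K Z : Subgroup G) (q : ℕ) : Prop where
  odd : Odd (Nat.card G)
  solv : Group.IsSolvable ↥M
  hLM : L ≤ M
  hKM : K ≤ M
  hLn : M ≤ normalizer (L : Set G)
  hQn : M ≤ normalizer (Q : Set G)
  hQL : Q ≤ L
  hq : q.Prime
  hQq : IsPGroup q Q
  hidx : ¬ q ∣ Q.relIndex L
  hM : M ≤ L ⊔ K
  hcop : (Nat.card K).Coprime (Nat.card L)
  hK1 : K ≠ ⊥
  hZ : Nat.card Z = q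
  hpr : ∀ k ∈ K, k ≠ 1 → L ⊓ centralizer ({k} : Set G) = Z
  hnn : ¬ Group.IsNilpotent ↥L

/-- The Frattini subgroup of the subgroup `Q`, as a subgroup of the ambient group. -/
def p15Phi {G : Type u} [Group G] (Q : Subgroup G) : Subgroup G :=
  (frattini ↥Q).map Q.subtype

end Cfsg.Agent.Helper62
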