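import Cfsg.Prelude.Def_OddOrderLocal

/-!
# S1366 (B&G 14.7, existence of `M*`): shared definitions for CALL PK

`PKCtx M K`: `K` is a nontrivial cyclic Hall `κ(M)`-subgroup of the maximal subgroup `M`.
`pkS M K = C_{M_σ}(K)` (`K*`), `pkZ M K = K K*`.
`PKOwn M K H T`: moreover `H` is a maximal subgroup over `N_G(T)`, `T ≤ K` of prime order.
`PKOver K H`: `H` is a maximal subgroup over `N_G(T)` for some `T ≤ K` of prime order.
`KappaCyc G`: row S1351 as a hypothesis (Hall `κ`-subgroups of maximal subgroups are cyclic).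
-/

set_option autoImplicit false

namespace Cfsg.Agent.Helper62

open Cfsg Subgroup

universe u

variable {G : Type u} [Group G]

/-- `K* = C_{M_σ}(K)`. -/
abbrev pkS (M K : Subgroup G) : Subgroup G := sigmaCore M ⊓ centralizer (K : Set G)

/-- `Z = K K*`. -/
abbrev pkZ (M K : Subgroup G) : Subgroup G := K ⊔ pkS M K

/-- `K` is a nontrivial cyclic Hall `κ(M)`-subgroup of the maximal subgroup `M`. -/
structure PKCtx (M K : Subgroup G) : Prop where
  coatom : IsCoatom M
  cyclic : IsCyclic K
  hall : IsPiHallOf (kappa M) K M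
  ne : K ≠ ⊥

/-- `PKCtx M K` and `H` is a maximal subgroup over `N_G(T)`, `T ≤ K` of prime order. -/
structure PKOwn (M K H T : Subgroup G) : Prop where
  ctx : PKCtx M K
  coatomH : IsCoatom H
  TK : T ≤ K
  Tprime : (Nat.card T).Prime
  norm : normalizer (T : Set G) ≤ H

/-- `H` is a maximal subgroup over `N_G(T)` for some `T ≤ K` of prime order. -/
def PKOver (K H : Subgroup G) : Prop :=
  IsCoatom H ∧ ∃ T : Subgroup G, T ≤ K ∧ (Nat.card T).Prime ∧ normalizer (T : Set G) ≤ H

/-- The members of the family: `M` and the maximal subgroups over the `N_G(T)`. -/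
def pkSet (M K : Subgroup G) : Set (Subgroup G) := {L | L = M ∨ PKOver K L}

/-- Row S1351 as a hypothesis. -/
def KappaCyc (G : Type u) [Group G] : Prop :=
  ∀ H : Subgroup G, IsCoatom H → ∀ K : Subgroup G, IsPiHallOf (kappa H) K H → IsCyclic K

end Cfsg.Agent.Helper62
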